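import Groth.Agent.Lib.CanDual17.Len
import Groth.Agent.Lib.TorOne17.Basic
import Mathlib.Algebra.Category.ModuleCat.InjectiveDimension
import Mathlib.Algebra.Category.ModuleCat.Ext.HasExt
import Mathlib.Algebra.Category.ModuleCat.Projective
import Mathlib.Algebra.Homology.DerivedCategory.Ext.ExactSequences
import Mathlib.Algebra.Homology.DerivedCategory.Ext.EnoughProjectives
import Mathlib.Algebra.Algebra.Operations
import Mathlib.RingTheory.Localization.Integer

/-!
# Canonical duality of lattices over a one-dimensional local domain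
-/

set_option autoImplicit false
set_option backward.isDefEq.respectTransparency.types false
set_option linter.style.haveILetI false
universe u

open IsLocalRing CategoryTheory

namespace Groth.Agent.CanDual17

variable {O : Type u} [CommRing O] [IsDomain O] [IsNoetherianRing O]

/-- Torsion-free modules have no higher extensions into modules of injective dimension at most one. -/
theorem subsingleton_ext (M : Type u) [AddCommGroup M] [Module O M] [Module.Finite O M] [Module.IsTorsionFree O M]
    (Y : ModuleCat.{u} O) [HasInjectiveDimensionLT Y 2] (i : ℕ) (hi : 1 ≤ i) :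
    Subsingleton (Abelian.Ext (ModuleCat.of O M) Y i) := by
  obtain ⟨n, g, hg⟩ := TorOne17.exists_embedding_free O M
  let S : ShortComplex (ModuleCat.{u} O) :=
    ShortComplex.mk (ModuleCat.ofHom g) (ModuleCat.ofHom (LinearMap.range g).mkQ) (by
      ext x
      exact (Submodule.Quotient.mk_eq_zero _).2 ⟨x, rfl⟩)
  have hS : S.ShortExact :=
    { exact := (ShortComplex.moduleCat_exact_iff _).2 fun x hx => (Submodule.Quotient.mk_eq_zero _).1 hx
      mono_f := (ModuleCat.mono_iff_injective _).2 hg
      epi_g := (ModuleCat.epi_iff_surjective _).2 (Submodule.mkQ_surjective _) }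
  haveI : Projective S.X₂ :=
    (IsProjective.iff_projective (R := O) (ModuleCat.of O (Fin n → O))).1 inferInstance
  refine subsingleton_of_forall_eq 0 fun x => ?_
  obtain ⟨y, hy⟩ := Abelian.Ext.contravariant_sequence_exact₁ hS (Y := Y) x (n₁ := 1 + i) rfl
    ((HasInjectiveDimensionLT.subsingleton Y 2 (1 + i) (by omega) S.X₃).elim _ _)
  obtain ⟨j, rfl⟩ : ∃ j, i = j + 1 := ⟨i - 1, by omega⟩
  rw [← hy, Abelian.Ext.eq_zero_of_projective y, Abelian.Ext.comp_zero]

/-- Homomorphisms from the kernel of a surjection onto a torsion-free module extend. -/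
theorem exists_extend {F M : Type u} [AddCommGroup F] [Module O F] [AddCommGroup M] [Module O M]
    [Module.Finite O M] [Module.IsTorsionFree O M] (p : F →ₗ[O] M) (hp : Function.Surjective p)
    {Y : Type u} [AddCommGroup Y] [Module O Y] [HasInjectiveDimensionLT (ModuleCat.of O Y) 2]
    (g : ↥(LinearMap.ker p) →ₗ[O] Y) : ∃ f : F →ₗ[O] Y, ∀ x : ↥(LinearMap.ker p), f x = g x := by
  let S : ShortComplex (ModuleCat.{u} O) :=
    ModuleCat.shortComplexOfCompEqZero (LinearMap.ker p).subtype p (LinearMap.comp_ker_subtype p)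
  have hex : Function.Exact (LinearMap.ker p).subtype p := LinearMap.exact_subtype_ker_map p
  have hS : S.ShortExact :=
    ModuleCat.shortComplex_shortExact S hex (LinearMap.ker p).injective_subtype hp
  haveI := subsingleton_ext M (ModuleCat.of O Y) 1 le_rfl
  obtain ⟨x, hx⟩ := Abelian.Ext.contravariant_sequence_exact₁ hS (ModuleCat.of O Y)
    (Abelian.Ext.mk₀ (ModuleCat.ofHom g : S.X₁ ⟶ ModuleCat.of O Y)) (add_zero 1)
    (Subsingleton.elim (α := Abelian.Ext (ModuleCat.of O M) (ModuleCat.of O Y) 1) _ _)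
  obtain ⟨f, rfl⟩ := Abelian.Ext.homEquiv₀.symm.surjective x
  simp only [Abelian.Ext.homEquiv₀_symm_apply, Abelian.Ext.mk₀_comp_mk₀] at hx
  have hfg := Abelian.Ext.homEquiv₀.symm.injective (a₁ := S.f ≫ f) (a₂ := ModuleCat.ofHom g) (by simpa using hx)
  exact ⟨f.hom, fun z => congr($(hfg).hom z)⟩

variable {K : Type u} [Field K] [Algebra O K] [IsFractionRing O K]
variable {V : Type u} [AddCommGroup V] [Module K V] [Module O V] [IsScalarTower O K V]

/-- Every vector has a nonzero multiple in a spanning lattice. -/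
theorem exists_smul_mem {M : Submodule O V} (hM : Submodule.span K (M : Set V) = ⊤) (v : V) :
    ∃ c : O, c ≠ 0 ∧ c • v ∈ M := by
  have hv : v ∈ Submodule.span K (M : Set V) := hM ▸ trivial
  induction hv using Submodule.span_induction with
  | mem x hx => exact ⟨1, one_ne_zero, by rwa [one_smul]⟩
  | zero => exact ⟨1, one_ne_zero, by rw [smul_zero]; exact M.zero_mem⟩
  | add x y _ _ hx hy =>
    obtain ⟨a, ha, hax⟩ := hx
    obtain ⟨b, hb, hby⟩ := hy
    refine ⟨a * b, mul_ne_zero ha hb, ?_⟩
    rw [smul_add]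
    exact M.add_mem (by rw [mul_comm, mul_smul]; exact M.smul_mem b hax) (by rw [mul_smul]; exact M.smul_mem a hby)
  | smul k x _ hx =>
    obtain ⟨a, ha, hax⟩ := hx
    obtain ⟨⟨p, q⟩, hpq⟩ := IsLocalization.surj (nonZeroDivisors O) k
    refine ⟨q * a, mul_ne_zero (nonZeroDivisors.ne_zero q.2) ha, ?_⟩
    have : ((q : O) * a) • k • x = p • (a • x) := by
      simp only [← IsScalarTower.algebraMap_smul K (_ : O), smul_smul, map_mul]
      congr 1
      linear_combination algebraMap O K a * hpq
    rw [this]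
    exact M.smul_mem p hax

theorem span_eq_top {M : Submodule O V} (h : ∀ v : V, ∃ c : O, c ≠ 0 ∧ c • v ∈ M) :
    Submodule.span K (M : Set V) = ⊤ := by
  refine eq_top_iff.2 fun v _ => ?_
  obtain ⟨c, hc, hcv⟩ := h v
  have hc' : algebraMap O K c ≠ 0 := (map_ne_zero_iff _ (IsFractionRing.injective O K)).2 hc
  have h1 := Submodule.smul_mem (Submodule.span K (M : Set V)) (algebraMap O K c)⁻¹ (Submodule.subset_span hcv)
  rwa [← IsScalarTower.algebraMap_smul K c v, inv_smul_smul₀ hc'] at h1

theorem span_eq_top_mono {M N : Submodule O V} (h : M ≤ N) (hM : Submodule.span K (M : Set V) = ⊤) :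
    Submodule.span K (N : Set V) = ⊤ := eq_top_iff.2 (hM ▸ Submodule.span_mono h)

/-- A finitely generated submodule has a common denominator into a spanning one. -/
theorem exists_denominator {M N : Submodule O V} (hM : M.FG) (hN : Submodule.span K (N : Set V) = ⊤) :
    ∃ c : O, c ≠ 0 ∧ ∀ x ∈ M, c • x ∈ N := by
  classical
  obtain ⟨s, rfl⟩ := hM
  choose c hc hcN using fun v : V => exists_smul_mem hN v
  refine ⟨∏ v ∈ s, c v, Finset.prod_ne_zero_iff.2 fun v _ => hc v, fun x hx => ?_⟩
  induction hx using Submodule.span_induction with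
  | mem v hv =>
    rw [← Finset.prod_erase_mul s c hv, mul_smul]
    exact N.smul_mem _ (hcN v)
  | zero => rw [smul_zero]; exact N.zero_mem
  | add x y _ _ hx hy => rw [smul_add]; exact N.add_mem hx hy
  | smul r x _ hx => rw [smul_comm]; exact N.smul_mem _ hx

include K in
variable (K) in
theorem eq_zero_of_smul_eq_zero {c : O} (hc : c ≠ 0) {v : V} (h : c • v = 0) : v = 0 := by
  rw [← IsScalarTower.algebraMap_smul K c v, smul_eq_zero] at h
  exact h.resolve_left ((map_ne_zero_iff _ (IsFractionRing.injective O K)).2 hc)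

include K in
variable (K) in
theorem isTorsionFree (M : Submodule O V) : Module.IsTorsionFree O ↥M := by
  refine .of_smul_eq_zero fun c x hcx => ?_
  by_cases hc : c = 0
  · exact Or.inl hc
  · exact Or.inr (Subtype.ext (eq_zero_of_smul_eq_zero K hc (congrArg Subtype.val hcx)))

section dual

variable (B : V →ₗ[K] V →ₗ[K] K) (ω : Submodule O K)

/-- The dual lattice with respect to a pairing. -/
def dual (M : Submodule O V) : Submodule O V where
  carrier := {y | ∀ x ∈ M, B y x ∈ ω}
  add_mem' ha hb x hx := by rw [map_add, LinearMap.add_apply]; exact ω.add_mem (ha x hx) (hb x hx)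
  zero_mem' x _ := by rw [map_zero, LinearMap.zero_apply]; exact ω.zero_mem
  smul_mem' c y hy x hx := by
    rw [← IsScalarTower.algebraMap_smul K c y, map_smul, LinearMap.smul_apply, algebraMap_smul]
    exact ω.smul_mem c (hy x hx)

variable {B ω}

theorem mem_dual {M : Submodule O V} {y : V} : y ∈ dual B ω M ↔ ∀ x ∈ M, B y x ∈ ω := Iff.rfl

theorem dual_anti {M N : Submodule O V} (h : N ≤ M) : dual B ω M ≤ dual B ω N := fun _ hy x hx => hy x (h hx)

theorem le_dual_dual (hsymm : ∀ x y, B x y = B y x) (M : Submodule O V) : M ≤ dual B ω (dual B ω M) :=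
  fun x hx y hy => hsymm x y ▸ hy x hx

theorem dual_span_eq_top (hω : Submodule.span K (ω : Set K) = ⊤) {M : Submodule O V} (hM : M.FG) :
    Submodule.span K (dual B ω M : Set V) = ⊤ := by
  classical
  refine span_eq_top fun y => ?_
  obtain ⟨s, rfl⟩ := hM
  choose c hc hcω using fun x : V => exists_smul_mem hω (B y x)
  refine ⟨∏ v ∈ s, c v, Finset.prod_ne_zero_iff.2 fun v _ => hc v, fun x hx => ?_⟩
  rw [← IsScalarTower.algebraMap_smul K (∏ v ∈ s, c v) y, map_smul, LinearMap.smul_apply, algebraMap_smul]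
  induction hx using Submodule.span_induction with
  | mem v hv =>
    rw [← Finset.prod_erase_mul s c hv, mul_smul]
    exact ω.smul_mem _ (hcω v)
  | zero => rw [map_zero, smul_zero]; exact ω.zero_mem
  | add x y _ _ hx hy => rw [map_add, smul_add]; exact ω.add_mem hx hy
  | smul r x _ hx =>
    rw [← IsScalarTower.algebraMap_smul K r x, map_smul, algebraMap_smul, smul_comm]
    exact ω.smul_mem _ hx

/-- Pairing against a spanning lattice, as a homomorphism. -/
noncomputable def dualHom (M : Submodule O V) : ↥(dual B ω M) →ₗ[O] (↥M →ₗ[O] ↥ω) where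
  toFun y :=
    { toFun := fun x => ⟨B y.1 x.1, y.2 x.1 x.2⟩
      map_add' := fun x x' => Subtype.ext (map_add _ _ _)
      map_smul' := fun c x => Subtype.ext (by
        show B y.1 (c • x.1) = c • B y.1 x.1
        rw [← IsScalarTower.algebraMap_smul K c x.1, map_smul, algebraMap_smul]) }
  map_add' y y' := LinearMap.ext fun x => Subtype.ext (by
    show B (y.1 + y'.1) x.1 = B y.1 x.1 + B y'.1 x.1
    rw [map_add, LinearMap.add_apply])
  map_smul' c y := LinearMap.ext fun x => Subtype.ext (by
    show B (c • y.1) x.1 = c • B y.1 x.1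
    rw [← IsScalarTower.algebraMap_smul K c y.1, map_smul, LinearMap.smul_apply, algebraMap_smul])

theorem dualHom_apply (M : Submodule O V) (y : ↥(dual B ω M)) (x : ↥M) :
    ((dualHom M y x : ↥ω) : K) = B y.1 x.1 := rfl

variable [FiniteDimensional K V]

/-- A linear map on a spanning lattice is pairing with a unique vector. -/
theorem exists_eq_pairing (hB : Function.Bijective B) {M : Submodule O V} (hM : Submodule.span K (M : Set V) = ⊤)
    (φ : ↥M →ₗ[O] K) : ∃ y : V, ∀ x : ↥M, B y x.1 = φ x := by
  classical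
  obtain ⟨s, hsM, hspan, hli⟩ := exists_linearIndependent K (M : Set V)
  let b : Module.Basis ↥s K V := Module.Basis.mk hli (by rw [Subtype.range_coe, hspan, hM])
  have hb : ∀ i, b i = (i : V) := fun i => Module.Basis.mk_apply _ _ i
  haveI : Fintype ↥s := FiniteDimensional.fintypeBasisIndex b
  obtain ⟨y, hy⟩ := hB.2 (b.constr K fun i => φ ⟨i.1, hsM i.2⟩)
  refine ⟨y, fun x => ?_⟩
  let T : Submodule O V := Submodule.span O (Set.range b)
  have hT : Submodule.span K (T : Set V) = ⊤ :=
    eq_top_iff.2 (b.span_eq ▸ Submodule.span_mono Submodule.subset_span)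
  obtain ⟨c, hc, hcx⟩ := exists_smul_mem hT x.1
  obtain ⟨o, ho⟩ := (Submodule.mem_span_range_iff_exists_fun O).1 hcx
  have h1 : c • x = ∑ i, o i • (⟨i.1, hsM i.2⟩ : ↥M) := Subtype.ext (by
    simp only [Submodule.coe_smul, Submodule.coe_sum, ← ho, hb])
  have h2 : c • B y x.1 = c • φ x := by
    have hBO : ∀ (r : O) (v : V), B y (r • v) = r • B y v := fun r v => by
      rw [← IsScalarTower.algebraMap_smul K r v, map_smul, algebraMap_smul]
    rw [← map_smul φ, h1, map_sum, ← hBO, ← ho, map_sum]
    refine Finset.sum_congr rfl fun i _ => ?_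
    rw [hBO, map_smul φ, hy, Module.Basis.constr_basis]
  exact smul_right_injective K hc h2

theorem eq_zero_of_pairing (hB : Function.Bijective B) {M : Submodule O V}
    (hM : Submodule.span K (M : Set V) = ⊤) {y : V} (h : ∀ x ∈ M, B y x = 0) : y = 0 := by
  refine hB.1 ((map_zero B).symm ▸ ?_)
  exact LinearMap.ext_on (eq_top_iff.1 hM |>.antisymm' le_top) fun x hx => h x hx

theorem dualHom_bijective (hB : Function.Bijective B) {M : Submodule O V}
    (hM : Submodule.span K (M : Set V) = ⊤) : Function.Bijective (dualHom (B := B) (ω := ω) M) := by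
  constructor
  · intro y y' h
    refine Subtype.ext (sub_eq_zero.1 (eq_zero_of_pairing hB hM fun x hx => ?_))
    rw [map_sub, LinearMap.sub_apply, sub_eq_zero]
    exact congrArg Subtype.val (LinearMap.congr_fun h ⟨x, hx⟩)
  · intro φ
    obtain ⟨y, hy⟩ := exists_eq_pairing hB hM (ω.subtype.comp φ)
    exact ⟨⟨y, fun x hx => (hy ⟨x, hx⟩).symm ▸ (φ ⟨x, hx⟩).2⟩, LinearMap.ext fun x => Subtype.ext (hy x)⟩

variable (B ω) in
/-- The dual lattice is the module of homomorphisms into `ω`. -/
noncomputable def dualEquiv (hB : Function.Bijective B) {M : Submodule O V}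
    (hM : Submodule.span K (M : Set V) = ⊤) : ↥(dual B ω M) ≃ₗ[O] (↥M →ₗ[O] ↥ω) :=
  LinearEquiv.ofBijective _ (dualHom_bijective hB hM)

theorem dual_fg (hB : Function.Bijective B) (hω : ω.FG) {M : Submodule O V}
    (hMfg : M.FG) (hM : Submodule.span K (M : Set V) = ⊤) : (dual B ω M).FG := by
  haveI : Module.Finite O ↥M := Module.Finite.iff_fg.2 hMfg
  haveI : Module.Finite O ↥ω := Module.Finite.iff_fg.2 hω
  obtain ⟨t, p, hp⟩ := Module.Finite.exists_fin' O ↥M
  let e : (↥M →ₗ[O] ↥ω) →ₗ[O] (Fin t → ↥ω) :=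
    { toFun := fun f i => f (p (Pi.single i 1))
      map_add' := fun _ _ => rfl
      map_smul' := fun _ _ => rfl }
  have he : Function.Injective e := fun f g h =>
    (LinearMap.cancel_right hp).1 (LinearMap.pi_ext' fun i => LinearMap.ext_ring (congrFun h i))
  haveI : Module.Finite O (↥M →ₗ[O] ↥ω) := Module.Finite.of_injective e he
  exact Module.Finite.iff_fg.1 (Module.Finite.equiv (dualEquiv B ω hB hM).symm)

variable [IsLocalRing O]

/-- The multipliers of the maximal ideal into `ω`. -/
def socleTop (ω : Submodule O K) : Submodule O K where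
  carrier := {a | ∀ r ∈ maximalIdeal O, r • a ∈ ω}
  add_mem' ha hb r hr := by rw [smul_add]; exact ω.add_mem (ha r hr) (hb r hr)
  zero_mem' r _ := by rw [smul_zero]; exact ω.zero_mem
  smul_mem' c a ha r hr := by rw [smul_comm]; exact ω.smul_mem c (ha r hr)

theorem le_socleTop : ω ≤ socleTop ω := fun _ ha r _ => ω.smul_mem r ha

variable [hinj : HasInjectiveDimensionLT (ModuleCat.of O ↥ω) 2]

include hinj in
/-- Duality turns a step of length one into the socle quotient of `ω`. -/
theorem len_dual_step (hB : Function.Bijective B) (hsymm : ∀ x y, B x y = B y x) {N : Submodule O V} (hNfg : N.FG)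
    (hN : Submodule.span K (N : Set V) = ⊤) {y : V} (hy : y ∉ N) (hm : ∀ r ∈ maximalIdeal O, r • y ∈ N) :
    len (dual B ω (N ⊔ Submodule.span O {y})) (dual B ω N) = len ω (socleTop ω) := by
  set M : Submodule O V := N ⊔ Submodule.span O {y} with hMdef
  have hNM : N ≤ M := le_sup_left
  have hyM : y ∈ M := Submodule.mem_sup_right (Submodule.mem_span_singleton_self y)
  let φ : ↥(dual B ω N) →ₗ[O] ↥(socleTop ω) ⧸ Submodule.comap (socleTop ω).subtype ω :=
    (Submodule.comap (socleTop ω).subtype ω).mkQ.comp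
      { toFun := fun a => ⟨B a.1 y, fun r hr => by
          rw [← algebraMap_smul K r, ← map_smul, algebraMap_smul]; exact a.2 _ (hm r hr)⟩
        map_add' := fun a a' => Subtype.ext (by
          show B (a.1 + a'.1) y = B a.1 y + B a'.1 y
          rw [map_add, LinearMap.add_apply])
        map_smul' := fun c a => by
          refine Subtype.ext ?_
          rw [RingHom.id_apply]
          show B (c • a.1) y = c • B a.1 y
          rw [← IsScalarTower.algebraMap_smul K c a.1, map_smul, LinearMap.smul_apply, algebraMap_smul] }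
  have hker : LinearMap.ker φ = Submodule.comap (dual B ω N).subtype (dual B ω M) := by
    ext a
    constructor
    · intro ha x hx
      have ha' : B a.1 y ∈ ω := by
        have h : Submodule.Quotient.mk (p := Submodule.comap (socleTop ω).subtype ω)
            (⟨B a.1 y, fun r hr => by rw [← algebraMap_smul K r, ← map_smul, algebraMap_smul]; exact a.2 _ (hm r hr)⟩ :
              ↥(socleTop ω)) = 0 := ha
        rw [Submodule.Quotient.mk_eq_zero] at h
        exact h
      obtain ⟨p, hp, q, hq, rfl⟩ := Submodule.mem_sup.1 hx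
      obtain ⟨r, rfl⟩ := Submodule.mem_span_singleton.1 hq
      show B a.1 (p + r • y) ∈ ω
      rw [map_add, ← IsScalarTower.algebraMap_smul K r y, map_smul, algebraMap_smul]
      exact ω.add_mem (a.2 p hp) (ω.smul_mem r ha')
    · intro ha
      refine LinearMap.mem_ker.2 ?_
      exact (Submodule.Quotient.mk_eq_zero (Submodule.comap (socleTop ω).subtype ω)).2 (ha y hyM)
  have hsur : Function.Surjective φ := by
    intro q
    obtain ⟨⟨b, hb⟩, rfl⟩ := Submodule.Quotient.mk_surjective _ q
    haveI : Module.Finite O ↥M := Module.Finite.iff_fg.2 (hNfg.sup (Submodule.fg_span_singleton y))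
    haveI := isTorsionFree K M
    let p : O × ↥N →ₗ[O] ↥M :=
      LinearMap.coprod (LinearMap.toSpanSingleton O ↥M ⟨y, hyM⟩) (Submodule.inclusion hNM)
    have hp : Function.Surjective p := by
      rintro ⟨x, hx⟩
      obtain ⟨n, hn, q, hq, rfl⟩ := Submodule.mem_sup.1 hx
      obtain ⟨r, rfl⟩ := Submodule.mem_span_singleton.1 hq
      exact ⟨(r, ⟨n, hn⟩), Subtype.ext (add_comm (r • y) n)⟩
    have hk : ∀ z : ↥(LinearMap.ker p), z.1.1 ∈ maximalIdeal O := fun z => by
      by_contra hr
      obtain ⟨u, hu⟩ : IsUnit z.1.1 := not_not.1 fun h' => hr ((mem_maximalIdeal _).2 h')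
      have h1 : z.1.1 • y + (z.1.2 : V) = 0 := congrArg Subtype.val z.2
      refine hy ?_
      have h2 := N.smul_mem (↑u⁻¹ : O) (N.neg_mem z.1.2.2)
      rwa [← eq_neg_of_add_eq_zero_left h1, ← hu, smul_smul, Units.inv_mul, one_smul] at h2
    let g : ↥(LinearMap.ker p) →ₗ[O] ↥ω :=
      { toFun := fun z => ⟨z.1.1 • b, hb _ (hk z)⟩
        map_add' := fun z z' => Subtype.ext (add_smul _ _ _)
        map_smul' := fun c z => Subtype.ext (smul_assoc c z.1.1 b) }
    obtain ⟨f, hf⟩ := exists_extend p hp g
    obtain ⟨a, ha⟩ := exists_eq_pairing hB hN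
      (-(ω.subtype.comp (f.comp (LinearMap.inr O O ↥N))))
    have haN : a ∈ dual B ω N := fun x hx => by
      rw [ha ⟨x, hx⟩]
      exact ω.neg_mem (f _).2
    refine ⟨⟨a, haN⟩, ?_⟩
    refine (Submodule.Quotient.eq _).2 ?_
    show B a y - b ∈ ω
    -- test against an element of the maximal ideal
    have key : ∀ r ∈ maximalIdeal O, r • ((f (1, 0) : K) + B a y) = r • b := by
      intro r hr
      have hz : ((r, -⟨r • y, hm r hr⟩) : O × ↥N) ∈ LinearMap.ker p := Subtype.ext (add_neg_cancel (r • y))
      have h1 : (f (r, -⟨r • y, hm r hr⟩) : K) = r • b := congrArg Subtype.val (hf ⟨_, hz⟩)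
      rw [← h1, show ((r, -⟨r • y, hm r hr⟩) : O × ↥N) = r • ((1 : O), (0 : ↥N)) + (0, -⟨r • y, hm r hr⟩) by simp,
        map_add, map_smul, smul_add, Submodule.coe_add, Submodule.coe_smul]
      congr 1
      have h2 := ha (-⟨r • y, hm r hr⟩)
      simp only [LinearMap.neg_apply, LinearMap.comp_apply, LinearMap.inr_apply, Submodule.subtype_apply] at h2
      rw [show ((-⟨r • y, hm r hr⟩ : ↥N) : V) = -(r • y) from rfl, map_neg, neg_inj] at h2
      rw [← h2, ← IsScalarTower.algebraMap_smul K r y, map_smul, algebraMap_smul]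
    obtain ⟨r, hr, hr0⟩ : ∃ r ∈ maximalIdeal O, r ≠ 0 := by
      by_contra! hno
      obtain ⟨c, hc, hcy⟩ := exists_smul_mem hN y
      obtain ⟨u, rfl⟩ : IsUnit c := not_not.1 fun h' => hc (hno c ((mem_maximalIdeal c).2 h'))
      exact hy (by simpa [smul_smul] using N.smul_mem (↑u⁻¹ : O) hcy)
    have h3 : (f (1, 0) : K) + B a y = b := smul_right_injective K hr0 (key r hr)
    rw [← h3, sub_add_cancel_right]
    exact ω.neg_mem (f _).2
  rw [len, len, ← hker]
  exact (LinearMap.quotKerEquivOfSurjective φ hsur).length_eq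

variable [Ring.KrullDimLE 1 O]

include hinj in
theorem len_dual' (hB : Function.Bijective B) (hsymm : ∀ x y, B x y = B y x) {N M : Submodule O V}
    (hMfg : M.FG) (hNM : N ≤ M) (hN : Submodule.span K (N : Set V) = ⊤) :
    len (dual B ω M) (dual B ω N) = len N M * len ω (socleTop ω) := by
  obtain ⟨c, hc, hcM⟩ := exists_denominator hMfg hN
  obtain ⟨n, hn⟩ := ENat.ne_top_iff_exists.1 (len_ne_top hMfg hc hcM)
  haveI : IsNoetherian O ↥M := isNoetherian_of_fg_of_noetherian M hMfg
  induction n generalizing N with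
  | zero =>
    obtain rfl : N = M := le_antisymm hNM (len_eq_zero.1 hn.symm)
    rw [len_self, len_self, zero_mul]
  | succ n ih =>
    have hne : ¬ M ≤ N := fun h => by
      rw [len_eq_zero.2 h] at hn
      simp at hn
    obtain ⟨y, hyM, hy, hm⟩ := exists_step hne hc hcM
    have hN'M : N ⊔ Submodule.span O {y} ≤ M := sup_le hNM ((Submodule.span_singleton_le_iff_mem y M).2 hyM)
    have hNfg : N.FG := hMfg.of_le hNM
    have h1 := len_add (le_sup_left : N ≤ N ⊔ Submodule.span O {y}) hN'M
    rw [len_sup_span_singleton hy hm] at h1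
    have hn' : (n : ℕ∞) = len (N ⊔ Submodule.span O {y}) M := by
      refine (ENat.add_right_injective_of_ne_top ENat.one_ne_top ?_).symm
      show 1 + _ = 1 + (n : ℕ∞)
      rw [h1, ← hn, Nat.cast_succ, add_comm]
    rw [← len_add (dual_anti hN'M) (dual_anti le_sup_left), ← h1,
      ih hN'M (span_eq_top_mono le_sup_left hN) (fun x hx => Submodule.mem_sup_left (hcM x hx)) hn',
      len_dual_step hB hsymm hNfg hN hy hm, add_mul, one_mul, add_comm]

end dual

end Groth.Agent.CanDual17
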