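import Groth.Agent.Lib.CanDual17.Duality
import Groth.Agent.Lib.Goren.Basic

/-!
# Consequences for the conductor, and the Gorenstein case
-/

set_option autoImplicit false
set_option backward.isDefEq.respectTransparency.types false
set_option linter.style.haveILetI false
universe u

open IsLocalRing CategoryTheory

namespace Groth.Agent.CanDual17

theorem krullDimLE_of_dim {O : Type u} [CommRing O] (hdim : ringKrullDim O = 1) : Ring.KrullDimLE 1 O :=
  Ring.krullDimLE_iff.2 (by rw [hdim]; simp)

theorem not_isField_of_dim {O : Type u} [CommRing O] (hdim : ringKrullDim O = 1) : ¬ IsField O := fun h => by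
  rw [ringKrullDim_eq_zero_of_isField h] at hdim
  exact zero_ne_one hdim

variable {O : Type u} [CommRing O] [IsDomain O] {K : Type u} [Field K] [Algebra O K] [IsFractionRing O K]

theorem one_ne_bot : (1 : Submodule O K) ≠ ⊥ := fun h => by
  have h1 : (1 : K) ∈ (1 : Submodule O K) := Submodule.mem_one.2 ⟨1, map_one _⟩
  rw [h, Submodule.mem_bot] at h1
  exact one_ne_zero h1

variable (O K) in
/-- The ring as a submodule of its fraction field. -/
noncomputable def oneEquiv : O ≃ₗ[O] ↥(1 : Submodule O K) :=
  (LinearEquiv.ofInjective (Algebra.linearMap O K) (IsFractionRing.injective O K)).trans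
    (LinearEquiv.ofEq _ _ Submodule.one_eq_range.symm)

theorem oneEquiv_apply (r : O) : (oneEquiv O K r : K) = algebraMap O K r := rfl

theorem hasInjectiveDimensionLT_one [LocCoh.IsGorensteinLocalRing O] (hdim : ringKrullDim O = 1) :
    HasInjectiveDimensionLT (ModuleCat.of O ↥(1 : Submodule O K)) 2 :=
  @hasInjectiveDimensionLT_of_iso _ _ _ _ _ (oneEquiv O K).toModuleIso 2
    (GorenLib.gorenstein_of_dim (n := 1) (by rw [hdim]; rfl)).2.1

variable [IsNoetherianRing O] [IsLocalRing O]

/-- The conductor ideal, inside the fraction field. -/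
theorem colon_smul_one (B : Subalgebra O K) :
    ((1 : Submodule O K).colon (Subalgebra.toSubmodule B : Set K)) • (1 : Submodule O K) =
      dual (LinearMap.mul K K) 1 (Subalgebra.toSubmodule B) := by
  refine le_antisymm (Submodule.smul_le.2 fun r hr x hx y hy => ?_) fun x hx => ?_
  · obtain ⟨o, rfl⟩ := Submodule.mem_one.1 hx
    show r • algebraMap O K o * y ∈ (1 : Submodule O K)
    rw [smul_mul_assoc, ← Algebra.smul_def, smul_comm]
    exact Submodule.smul_mem _ o (Submodule.mem_colon.1 hr y hy)
  · obtain ⟨r, hr⟩ := Submodule.mem_one.1 (show x ∈ (1 : Submodule O K) by simpa using hx 1 B.one_mem)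
    rw [← hr, show algebraMap O K r = r • (1 : K) by rw [Algebra.smul_def, mul_one]]
    refine Submodule.smul_mem_smul (Submodule.mem_colon.2 fun y hy => ?_) (Submodule.mem_one.2 ⟨1, map_one _⟩)
    have h := hx y hy
    rwa [← hr, LinearMap.mul_apply', ← Algebra.smul_def] at h

/-- The conductor ideal acting on an overring. -/
theorem map_colon_smul_top (B : Subalgebra O K) :
    Submodule.map (Subalgebra.toSubmodule B).subtype
      (((1 : Submodule O K).colon (Subalgebra.toSubmodule B : Set K)) • (⊤ : Submodule O ↥(Subalgebra.toSubmodule B))) =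
      dual (LinearMap.mul K K) 1 (Subalgebra.toSubmodule B) := by
  rw [Submodule.map_smul'', Submodule.map_top, Submodule.range_subtype]
  refine le_antisymm (Submodule.smul_le.2 fun r hr x hx y hy => ?_) fun x hx => ?_
  · show r • x * y ∈ (1 : Submodule O K)
    rw [smul_mul_assoc]
    exact Submodule.mem_colon.1 hr _ (B.mul_mem hx hy)
  · obtain ⟨r, hr⟩ := Submodule.mem_one.1 (show x ∈ (1 : Submodule O K) by simpa using hx 1 B.one_mem)
    rw [← hr, show algebraMap O K r = r • (1 : K) by rw [Algebra.smul_def, mul_one]]
    refine Submodule.smul_mem_smul (Submodule.mem_colon.2 fun y hy => ?_) B.one_mem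
    have h := hx y hy
    rwa [← hr, LinearMap.mul_apply', ← Algebra.smul_def] at h

end Groth.Agent.CanDual17
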