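import Groth.Agent.Lib.CanDual17.Basic
import Mathlib.LinearAlgebra.Matrix.Dual

/-!
# The canonical duality: colengths are preserved and lattices are reflexive
-/

set_option autoImplicit false
set_option backward.isDefEq.respectTransparency.types false
set_option linter.style.haveILetI false
universe u

open IsLocalRing CategoryTheory

namespace Groth.Agent.CanDual17

variable {O : Type u} [CommRing O] [IsDomain O] [IsNoetherianRing O]
variable {K : Type u} [Field K] [Algebra O K] [IsFractionRing O K]

/-- Multiplication by a nonzero scalar of the fraction field. -/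
noncomputable def scale {W : Type u} [AddCommGroup W] [Module K W] [Module O W] [IsScalarTower O K W]
    (a : K) (ha : a ≠ 0) : W ≃ₗ[O] W :=
  ((LinearEquiv.smulOfUnit (Units.mk0 a ha) : W ≃ₗ[K] W)).restrictScalars O

theorem scale_apply {W : Type u} [AddCommGroup W] [Module K W] [Module O W] [IsScalarTower O K W]
    (a : K) (ha : a ≠ 0) (w : W) : scale (O := O) a ha w = a • w := rfl

theorem span_one : Submodule.span K ((1 : Submodule O K) : Set K) = ⊤ := by
  refine eq_top_iff.2 fun v _ => ?_
  have h := Submodule.smul_mem (Submodule.span K ((1 : Submodule O K) : Set K)) v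
    (Submodule.subset_span (Submodule.mem_one.2 ⟨1, map_one _⟩))
  rwa [smul_eq_mul, mul_one] at h

theorem span_of_ne_bot {ω : Submodule O K} (h : ω ≠ ⊥) : Submodule.span K (ω : Set K) = ⊤ := by
  obtain ⟨w, hw, hw0⟩ := Submodule.exists_mem_ne_zero_of_ne_bot h
  refine eq_top_iff.2 fun v _ => ?_
  have h := Submodule.smul_mem (Submodule.span K (ω : Set K)) (v / w) (Submodule.subset_span hw)
  rwa [smul_eq_mul, div_mul_cancel₀ _ hw0] at h

theorem mul_bijective : Function.Bijective (LinearMap.mul K K) := by
  constructor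
  · intro a b h
    simpa using LinearMap.congr_fun h 1
  · intro φ
    refine ⟨φ 1, LinearMap.ext_ring ?_⟩
    simp

theorem mul_symm (x y : K) : LinearMap.mul K K x y = LinearMap.mul K K y x := mul_comm x y

theorem dual_mul_eq_div (ω M : Submodule O K) : dual (LinearMap.mul K K) ω M = ω / M := by
  ext x
  rw [mem_dual, Submodule.mem_div_iff_forall_mul_mem]
  rfl

theorem dual_one (ω : Submodule O K) : dual (LinearMap.mul K K) ω 1 = ω := by
  ext a
  refine ⟨fun h => ?_, fun h x hx => ?_⟩
  · simpa using h 1 (Submodule.mem_one.2 ⟨1, map_one _⟩)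
  · obtain ⟨c, rfl⟩ := Submodule.mem_one.1 hx
    show a * algebraMap O K c ∈ ω
    rw [mul_comm, ← Algebra.smul_def]
    exact ω.smul_mem c h

theorem one_fg : (1 : Submodule O K).FG := by
  rw [Submodule.one_eq_span]
  exact Submodule.fg_span_singleton _

variable [IsLocalRing O] [Ring.KrullDimLE 1 O]
variable (hdim : ¬ IsField O) (ω : Submodule O K) (hω0 : ω ≠ ⊥) (hωfg : ω.FG)
  [hinj : HasInjectiveDimensionLT (ModuleCat.of O ↥ω) 2]

include hdim hω0 hωfg hinj in
/-- The type of a canonical ideal is one. -/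
theorem len_socleTop : len ω (socleTop ω) = 1 := by
  obtain ⟨x, hx, hx0⟩ := Submodule.exists_mem_ne_zero_of_ne_bot
    (fun h => hdim (IsLocalRing.isField_iff_maximalIdeal_eq.2 h) : maximalIdeal O ≠ ⊥)
  have hinjK := IsFractionRing.injective O K
  let x' := algebraMap O K x
  have hx' : x' ≠ 0 := (map_ne_zero_iff _ hinjK).2 hx0
  let e : K ≃ₗ[O] K := scale x' hx'
  have hle : ∀ J : Submodule O K, J.map e.toLinearMap ≤ J := by
    rintro J _ ⟨a, ha, rfl⟩
    show x' • a ∈ J
    rw [algebraMap_smul]
    exact J.smul_mem x ha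
  -- rank one lattices have the colength of the ring
  obtain ⟨c, hc, hcω⟩ := exists_denominator (N := (1 : Submodule O K)) hωfg span_one
  have hc' : algebraMap O K c ≠ 0 := (map_ne_zero_iff _ hinjK).2 hc
  let e' : K ≃ₗ[O] K := scale (algebraMap O K c) hc'
  set J := ω.map e'.toLinearMap with hJ
  have hJ1 : J ≤ 1 := by
    rintro _ ⟨a, ha, rfl⟩
    show algebraMap O K c • a ∈ (1 : Submodule O K)
    rw [algebraMap_smul]
    exact hcω a ha
  have hJspan : Submodule.span K (J : Set K) = ⊤ := by
    obtain ⟨w, hw, hw0⟩ := Submodule.exists_mem_ne_zero_of_ne_bot hω0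
    exact span_of_ne_bot ((Submodule.ne_bot_iff J).2
      ⟨e' w, ⟨w, hw, rfl⟩, fun h => hw0 (e'.injective (h.trans (map_zero e').symm))⟩)
  have hfin : len J 1 ≠ ⊤ := by
    obtain ⟨d, hd, hdJ⟩ := exists_denominator (one_fg (O := O) (K := K)) hJspan
    exact len_ne_top one_fg hd hdJ
  have hxω : len (ω.map e.toLinearMap) ω = len ((1 : Submodule O K).map e.toLinearMap) 1 := by
    rw [← len_map e' (ω.map e.toLinearMap) ω,
      show (ω.map e.toLinearMap).map e'.toLinearMap = J.map e.toLinearMap by
        rw [hJ, ← Submodule.map_comp, ← Submodule.map_comp]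
        congr 1
        exact LinearMap.ext fun a => smul_comm (algebraMap O K c) x' a, ← hJ]
    refine WithTop.add_right_cancel hfin ?_
    have h1 := len_add (hle J) hJ1
    have h2 := len_add (Submodule.map_mono (f := e.toLinearMap) hJ1) (hle 1)
    have h3 := len_map e J 1
    exact h1.trans (h2.symm.trans ((congrArg (· + _) h3).trans (add_comm _ _)))
  have h1fg : ((1 : Submodule O K).map e.toLinearMap).FG := one_fg.map _
  have h1span : Submodule.span K (((1 : Submodule O K).map e.toLinearMap : Submodule O K) : Set K) = ⊤ :=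
    span_of_ne_bot ((Submodule.ne_bot_iff _).2
      ⟨e 1, ⟨1, Submodule.mem_one.2 ⟨1, map_one _⟩, rfl⟩, fun h => one_ne_zero (e.injective (h.trans (map_zero e).symm))⟩)
  have hkey := len_dual' (ω := ω) mul_bijective mul_symm (one_fg (O := O) (K := K)) (hle 1) h1span
  rw [dual_one] at hkey
  have hdN : (dual (LinearMap.mul K K) ω ((1 : Submodule O K).map e.toLinearMap)).map e.toLinearMap = ω := by
    ext a
    constructor
    · rintro ⟨b, hb, rfl⟩
      have := hb _ ⟨1, Submodule.mem_one.2 ⟨1, map_one _⟩, rfl⟩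
      show x' • b ∈ ω
      rwa [smul_eq_mul, mul_comm, ← mul_one x', ← smul_eq_mul x' 1] 
    · intro ha
      refine ⟨x'⁻¹ * a, ?_, ?_⟩
      · rintro _ ⟨o, ho, rfl⟩
        obtain ⟨r, rfl⟩ := Submodule.mem_one.1 ho
        show x'⁻¹ * a * (x' * algebraMap O K r) ∈ ω
        rw [show x'⁻¹ * a * (x' * algebraMap O K r) = algebraMap O K r * a by field_simp, ← Algebra.smul_def]
        exact ω.smul_mem r ha
      · show x' * (x'⁻¹ * a) = a
        rw [mul_inv_cancel_left₀ hx']
  rw [← len_map e ω, hdN, hxω] at hkey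
  have hpos : len ((1 : Submodule O K).map e.toLinearMap) 1 ≠ 0 := fun h => by
    obtain ⟨o, ho, hxo⟩ := len_eq_zero.1 h (Submodule.mem_one.2 ⟨1, map_one _⟩)
    obtain ⟨r, rfl⟩ := Submodule.mem_one.1 ho
    refine (mem_maximalIdeal x).1 hx (IsUnit.of_mul_eq_one r (hinjK ?_))
    rw [map_mul, map_one]
    exact hxo
  have hne : len ((1 : Submodule O K).map e.toLinearMap) 1 ≠ ⊤ := by
    obtain ⟨d, hd, hd'⟩ := exists_denominator (one_fg (O := O) (K := K)) h1span
    exact len_ne_top one_fg hd hd'
  generalize len ((1 : Submodule O K).map e.toLinearMap) 1 = l at hkey hpos hne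
  generalize len ω (socleTop ω) = r at hkey
  obtain ⟨l, rfl⟩ := ENat.ne_top_iff_exists.1 hne
  cases r with
  | top => simp [ENat.mul_top hpos] at hkey
  | coe r =>
    norm_cast at hkey hpos ⊢
    exact (Nat.mul_eq_left hpos).1 hkey.symm

variable {V : Type u} [AddCommGroup V] [Module K V] [Module O V] [IsScalarTower O K V] [FiniteDimensional K V]
  {B : V →ₗ[K] V →ₗ[K] K} (hB : Function.Bijective B) (hsymm : ∀ x y, B x y = B y x)

include hdim hω0 hωfg hinj hB hsymm in
/-- Duality into a canonical ideal preserves colengths. -/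
theorem len_dual {N M : Submodule O V} (hMfg : M.FG) (hNM : N ≤ M) (hN : Submodule.span K (N : Set V) = ⊤) :
    len (dual B ω M) (dual B ω N) = len N M := by
  rw [len_dual' hB hsymm hMfg hNM hN, len_socleTop hdim ω hω0 hωfg, mul_one]

include hdim hω0 hωfg hinj hB hsymm in
/-- Lattices are reflexive with respect to a canonical ideal. -/
theorem dual_dual {M : Submodule O V} (hMfg : M.FG) (hM : Submodule.span K (M : Set V) = ⊤) :
    dual B ω (dual B ω M) = M := by
  have hωs := span_of_ne_bot hω0
  have hDfg : (dual B ω M).FG := dual_fg hB hωfg hMfg hM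
  have hDspan : Submodule.span K (dual B ω M : Set V) = ⊤ := dual_span_eq_top hωs hMfg
  have hDDfg : (dual B ω (dual B ω M)).FG := dual_fg hB hωfg hDfg hDspan
  have h := len_dual hdim ω hω0 hωfg hB hsymm hDDfg (le_dual_dual hsymm M) hM
  have h3 : dual B ω (dual B ω (dual B ω M)) = dual B ω M :=
    le_antisymm (dual_anti (le_dual_dual hsymm M)) (le_dual_dual hsymm _)
  rw [h3, len_self] at h
  exact le_antisymm (len_eq_zero.1 h.symm) (le_dual_dual hsymm M)

include hdim hω0 hωfg hinj in
/-- A canonical ideal has trivial endomorphism ring. -/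
theorem dual_self : dual (LinearMap.mul K K) ω ω = 1 := by
  have h := dual_dual hdim ω hω0 hωfg mul_bijective mul_symm (one_fg (O := O) (K := K)) span_one
  rwa [dual_one] at h

end Groth.Agent.CanDual17
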