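import Groth.Agent.Lib.CanDual17.Conductor
import Mathlib.LinearAlgebra.TensorProduct.RightExactness
import Mathlib.RingTheory.Localization.BaseChange
import Mathlib.Algebra.Category.ModuleCat.Biproducts

/-!
# Canonical duality and extension groups of torsion-free modules
-/

set_option autoImplicit false
set_option backward.isDefEq.respectTransparency.types false
set_option linter.style.haveILetI false
universe u

open IsLocalRing CategoryTheory TensorProduct

namespace Groth.Agent.CanDual17

variable {O : Type u} [CommRing O] [IsDomain O] [IsNoetherianRing O]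
variable {K : Type u} [Field K] [Algebra O K] [IsFractionRing O K]

variable (K) in
/-- A torsion-free module embeds as a spanning lattice. -/
theorem exists_spanning_embedding (M : Type u) [AddCommGroup M] [Module O M] [Module.Finite O M]
    [Module.IsTorsionFree O M] :
    ∃ (n : ℕ) (M' : Submodule O (Fin n → K)), M'.FG ∧ Submodule.span K (M' : Set (Fin n → K)) = ⊤ ∧
      Nonempty (M ≃ₗ[O] ↥M') := by
  let n := Module.finrank K (K ⊗[O] M)
  let e : (K ⊗[O] M) ≃ₗ[K] (Fin n → K) := (Module.finBasis K (K ⊗[O] M)).equivFun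
  let f : M →ₗ[O] (Fin n → K) := (e.toLinearMap.restrictScalars O).comp (TensorProduct.mk O K M 1)
  have hinj : Function.Injective f := e.injective.comp (by
    intro a b hab
    obtain ⟨c, hc⟩ := (IsLocalizedModule.eq_iff_exists (nonZeroDivisors O) (TensorProduct.mk O K M 1)).1 hab
    exact smul_right_injective M (nonZeroDivisors.ne_zero c.2) hc)
  refine ⟨n, LinearMap.range f, LinearMap.range_eq_map f ▸ Module.Finite.fg_top.map f, ?_,
    ⟨LinearEquiv.ofInjective f hinj⟩⟩
  refine eq_top_iff.2 fun x _ => ?_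
  rw [← e.apply_symm_apply x]
  generalize e.symm x = y
  induction y using TensorProduct.induction_on with
  | zero => rw [map_zero]; exact Submodule.zero_mem _
  | tmul c m =>
    rw [show c ⊗ₜ[O] m = c • ((1 : K) ⊗ₜ[O] m) by rw [TensorProduct.smul_tmul', smul_eq_mul, mul_one], map_smul]
    exact Submodule.smul_mem _ _ (Submodule.subset_span ⟨m, rfl⟩)
  | add a b ha hb => rw [map_add]; exact Submodule.add_mem _ ha hb

/-- The dot product. -/
noncomputable def dot (K : Type u) [Field K] (n : ℕ) : (Fin n → K) →ₗ[K] (Fin n → K) →ₗ[K] K :=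
  (dotProductEquiv K (Fin n)).toLinearMap

theorem dot_apply {n : ℕ} (x y : Fin n → K) : dot K n x y = ∑ i, x i * y i := by
  simp [dot, dotProduct]

theorem dot_bijective (n : ℕ) : Function.Bijective (dot K n) := (dotProductEquiv K (Fin n)).bijective

theorem dot_symm {n : ℕ} (x y : Fin n → K) : dot K n x y = dot K n y x := by
  simp only [dot_apply, mul_comm]

variable [IsLocalRing O] [Ring.KrullDimLE 1 O]
variable (hdim : ¬ IsField O) (ω : Submodule O K) (hω0 : ω ≠ ⊥) (hωfg : ω.FG)
  [hinj : HasInjectiveDimensionLT (ModuleCat.of O ↥ω) 2]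

omit [IsLocalRing O] [Ring.KrullDimLE 1 O] in
include hωfg in
theorem finite_hom (M : Type u) [AddCommGroup M] [Module O M] [Module.Finite O M] :
    Module.Finite O (M →ₗ[O] ↥ω) := by
  haveI : Module.Finite O ↥ω := Module.Finite.iff_fg.2 hωfg
  obtain ⟨t, p, hp⟩ := Module.Finite.exists_fin' O M
  let e : (M →ₗ[O] ↥ω) →ₗ[O] (Fin t → ↥ω) :=
    { toFun := fun f i => f (p (Pi.single i 1))
      map_add' := fun _ _ => rfl
      map_smul' := fun _ _ => rfl }
  exact Module.Finite.of_injective e fun f g h =>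
    (LinearMap.cancel_right hp).1 (LinearMap.pi_ext' fun i => LinearMap.ext_ring (congrFun h i))

omit [IsLocalRing O] [Ring.KrullDimLE 1 O] in
theorem torsionFree_hom (M : Type u) [AddCommGroup M] [Module O M] : Module.IsTorsionFree O (M →ₗ[O] ↥ω) := by
  refine Module.IsTorsionFree.of_smul_eq_zero (R := O) (M := M →ₗ[O] ↥ω) fun c f hcf => ?_
  by_cases hc : c = 0
  · exact Or.inl hc
  · exact Or.inr (LinearMap.ext fun x => Subtype.ext
      (eq_zero_of_smul_eq_zero K hc (congrArg Subtype.val (LinearMap.congr_fun hcf x))))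

include hdim hω0 hωfg hinj in
/-- Torsion-free modules are reflexive with respect to a canonical ideal. -/
theorem eval_bijective (M : Type u) [AddCommGroup M] [Module O M] [Module.Finite O M] [Module.IsTorsionFree O M] :
    Function.Bijective (LinearMap.id.flip : M →ₗ[O] (M →ₗ[O] ↥ω) →ₗ[O] ↥ω) := by
  obtain ⟨n, M', hfg, hspan, ⟨e⟩⟩ := exists_spanning_embedding (O := O) K M
  let δ := dualEquiv (dot K n) ω (dot_bijective n) hspan
  have hDspan : Submodule.span K (dual (dot K n) ω M' : Set (Fin n → K)) = ⊤ :=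
    dual_span_eq_top (span_of_ne_bot hω0) hfg
  constructor
  · intro a b hab
    refine e.injective (Subtype.ext (sub_eq_zero.1 (eq_zero_of_pairing (dot_bijective n) hDspan fun y hy => ?_)))
    have h := congrArg Subtype.val (LinearMap.congr_fun hab ((δ ⟨y, hy⟩).comp e.toLinearMap))
    rw [dot_symm, map_sub, sub_eq_zero]
    exact h
  · intro Φ
    obtain ⟨x, hx⟩ := exists_eq_pairing (dot_bijective n) hDspan
      (ω.subtype.comp (Φ.comp ((LinearMap.lcomp O ↥ω e.toLinearMap).comp δ.toLinearMap)))
    have hxM : x ∈ M' := by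
      rw [← dual_dual hdim ω hω0 hωfg (dot_bijective n) dot_symm hfg hspan]
      intro y hy
      rw [hx ⟨y, hy⟩]
      exact Subtype.prop _
    refine ⟨e.symm ⟨x, hxM⟩, LinearMap.ext fun f => Subtype.ext ?_⟩
    obtain ⟨y, hy⟩ : ∃ y, (δ y).comp e.toLinearMap = f :=
      ⟨δ.symm (f.comp e.symm.toLinearMap), by
        rw [δ.apply_symm_apply]
        exact LinearMap.ext fun m => congrArg f (e.symm_apply_apply m)⟩
    subst hy
    show (dot K n) y.1 (e (e.symm ⟨x, hxM⟩)).1 = (Φ ((δ y).comp e.toLinearMap) : K)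
    rw [e.apply_symm_apply, dot_symm]
    exact hx y

include hdim hω0 hωfg hinj in
theorem lcomp_bijective (M N : Type u) [AddCommGroup M] [Module O M] [Module.Finite O M] [Module.IsTorsionFree O M]
    [AddCommGroup N] [Module O N] [Module.Finite O N] [Module.IsTorsionFree O N] :
    Function.Bijective fun f : M →ₗ[O] N => LinearMap.lcomp O ↥ω f := by
  constructor
  · intro f g h
    refine LinearMap.ext fun m => (eval_bijective hdim ω hω0 hωfg N).1 (LinearMap.ext fun φ => ?_)
    exact LinearMap.congr_fun (LinearMap.congr_fun h φ) m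
  · intro G
    let eN := LinearEquiv.ofBijective _ (eval_bijective hdim ω hω0 hωfg N)
    refine ⟨eN.symm.toLinearMap.comp ((LinearMap.lcomp O ↥ω G).comp LinearMap.id.flip),
      LinearMap.ext fun φ => LinearMap.ext fun m => ?_⟩
    show φ (eN.symm _) = G φ m
    exact LinearMap.congr_fun (eN.apply_symm_apply _) φ

/-- Passing to the duals, on morphisms. -/
noncomputable def dualMap (M N : Type u) [AddCommGroup M] [Module O M] [AddCommGroup N] [Module O N] :
    (ModuleCat.of O M ⟶ ModuleCat.of O N) →+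
      (ModuleCat.of O (N →ₗ[O] ↥ω) ⟶ ModuleCat.of O (M →ₗ[O] ↥ω)) where
  toFun f := ModuleCat.ofHom (LinearMap.lcomp O ↥ω f.hom)
  map_zero' := ModuleCat.hom_ext (LinearMap.ext fun φ => LinearMap.ext fun _ => map_zero φ)
  map_add' _ _ := ModuleCat.hom_ext (LinearMap.ext fun φ => LinearMap.ext fun _ => map_add φ _ _)

include hdim hω0 hωfg hinj in
theorem dualMap_bijective (M N : Type u) [AddCommGroup M] [Module O M] [Module.Finite O M] [Module.IsTorsionFree O M]
    [AddCommGroup N] [Module O N] [Module.Finite O N] [Module.IsTorsionFree O N] :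
    Function.Bijective (dualMap ω M N) := by
  obtain ⟨h1, h2⟩ := lcomp_bijective hdim ω hω0 hωfg M N
  exact ⟨fun f g h => ModuleCat.hom_ext (h1 (congrArg ModuleCat.Hom.hom h)), fun g => by
    obtain ⟨f, hf⟩ := h2 g.hom
    exact ⟨ModuleCat.ofHom f, ModuleCat.hom_ext hf⟩⟩

/-- Surjections with the same kernel have isomorphic targets. -/
theorem nonempty_addEquiv_of_ker_eq {X P Q : Type u} [AddCommGroup X] [AddCommGroup P] [AddCommGroup Q]
    (α : X →+ P) (β : X →+ Q) (hα : Function.Surjective α) (hβ : Function.Surjective β)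
    (h : ∀ x, α x = 0 ↔ β x = 0) : Nonempty (P ≃+ Q) := by
  have hker : α.ker = β.ker := AddSubgroup.ext fun x => h x
  exact ⟨((QuotientAddGroup.quotientKerEquivOfSurjective α hα).symm.trans
    (QuotientAddGroup.quotientAddEquivOfEq hker)).trans (QuotientAddGroup.quotientKerEquivOfSurjective β hβ)⟩

omit [IsLocalRing O] [Ring.KrullDimLE 1 O] in
include hinj in
theorem hasInjectiveDimensionLT_hom_free (a : ℕ) :
    HasInjectiveDimensionLT (ModuleCat.of O ((Fin a → O) →ₗ[O] ↥ω)) 2 := by
  have hpi : ∀ b : ℕ, HasInjectiveDimensionLT (ModuleCat.of O (Fin b → ↥ω)) 2 := by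
    intro b
    induction b with
    | zero =>
      haveI := (ModuleCat.isZero_of_subsingleton (ModuleCat.of O (Fin 0 → ↥ω))).hasInjectiveDimensionLT_zero
      exact hasInjectiveDimensionLT_of_ge _ 0 2 (by omega)
    | succ b ih =>
      let S : ShortComplex (ModuleCat.{u} O) := ShortComplex.mk
        (ModuleCat.ofHom (LinearMap.single O (fun _ : Fin (b + 1) => ↥ω) 0))
        (ModuleCat.ofHom (LinearMap.funLeft O ↥ω (Fin.succ : Fin b → Fin (b + 1)))) (by
          ext x i
          simp [LinearMap.funLeft_apply, Fin.succ_ne_zero]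
          rfl)
      have hS : S.ShortExact :=
        { exact := (ShortComplex.moduleCat_exact_iff _).2 fun x hx => ⟨x 0, funext fun i => by
            refine Fin.cases (by simp [S]) (fun j => ?_) i
            have h : x (Fin.succ j) = 0 := congrFun hx j
            rw [h]
            simp [S, Fin.succ_ne_zero]⟩
          mono_f := (ModuleCat.mono_iff_injective _).2 fun x y h => by simpa [S] using congrFun h 0
          epi_g := (ModuleCat.epi_iff_surjective _).2 fun y => ⟨Fin.cons 0 y, funext fun i => by simp [S]⟩ }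
      exact hS.hasInjectiveDimensionLT_X₂ 2 hinj ih
  exact @hasInjectiveDimensionLT_of_iso _ _ _ _ _
    (LinearMap.lsum O (fun _ : Fin a => O) O |>.symm.trans
      (LinearEquiv.piCongrRight fun _ => LinearMap.ringLmapEquivSelf O O ↥ω)).toModuleIso.symm 2 (hpi a)

include hdim hω0 hωfg hinj in
/-- Duality identifies extension groups of torsion-free modules with those of their duals. -/
theorem nonempty_ext_addEquiv (i : ℕ) (M N : Type u) [AddCommGroup M] [Module O M] [Module.Finite O M]
    [Module.IsTorsionFree O M] [AddCommGroup N] [Module O N] [Module.Finite O N] [Module.IsTorsionFree O N] :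
    Nonempty (Abelian.Ext (ModuleCat.of O M) (ModuleCat.of O N) i ≃+
      Abelian.Ext (ModuleCat.of O (N →ₗ[O] ↥ω)) (ModuleCat.of O (M →ₗ[O] ↥ω)) i) := by
  induction i generalizing M with
  | zero =>
    exact ⟨(Abelian.Ext.addEquiv₀.trans (AddEquiv.ofBijective _ (dualMap_bijective hdim ω hω0 hωfg M N))).trans
      Abelian.Ext.addEquiv₀.symm⟩
  | succ i ih =>
    haveI := finite_hom ω hωfg N
    haveI := torsionFree_hom ω N
    obtain ⟨a, p, hp⟩ := Module.Finite.exists_fin' O M
    let Ω := LinearMap.ker p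
    haveI : Module.IsTorsionFree O ↥Ω :=
      Function.Injective.moduleIsTorsionFree _ Ω.injective_subtype (map_smul Ω.subtype)
    haveI : Module.Finite O ↥Ω := Module.Finite.iff_fg.2 (IsNoetherian.noetherian _)
    let S : ShortComplex (ModuleCat.{u} O) :=
      ModuleCat.shortComplexOfCompEqZero Ω.subtype p (LinearMap.comp_ker_subtype p)
    have hS : S.ShortExact :=
      ModuleCat.shortComplex_shortExact S (LinearMap.exact_subtype_ker_map p) Ω.injective_subtype hp
    haveI : Projective S.X₂ :=
      (IsProjective.iff_projective (R := O) (ModuleCat.of O (Fin a → O))).1 inferInstance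
    have hpd : (LinearMap.lcomp O ↥ω Ω.subtype).comp (LinearMap.lcomp O ↥ω p) = 0 :=
      LinearMap.ext fun φ => LinearMap.ext fun x => by
        show φ (p x.1) = 0
        rw [x.2, map_zero]
    let T : ShortComplex (ModuleCat.{u} O) :=
      ShortComplex.mk (X₁ := ModuleCat.of O (M →ₗ[O] ↥ω)) (X₂ := ModuleCat.of O ((Fin a → O) →ₗ[O] ↥ω))
        (X₃ := ModuleCat.of O (↥Ω →ₗ[O] ↥ω)) (ModuleCat.ofHom (LinearMap.lcomp O ↥ω p))
        (ModuleCat.ofHom (LinearMap.lcomp O ↥ω Ω.subtype)) (ModuleCat.hom_ext hpd)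
    have hT : T.ShortExact :=
      ModuleCat.shortComplex_shortExact T
        (fun ψ => ⟨fun hψ => by
            let eM := LinearMap.quotKerEquivOfSurjective p hp
            have hle : Ω ≤ LinearMap.ker ψ := fun x hx => LinearMap.congr_fun hψ ⟨x, hx⟩
            refine ⟨(Submodule.liftQ Ω ψ hle).comp eM.symm.toLinearMap, LinearMap.ext fun x => ?_⟩
            show Submodule.liftQ Ω ψ hle (eM.symm (p x)) = ψ x
            rw [show eM.symm (p x) = Submodule.Quotient.mk x from eM.symm_apply_eq.2 rfl]
            rfl,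
          fun ⟨φ, hφ⟩ => hφ ▸ LinearMap.congr_fun hpd φ⟩)
        (fun φ φ' h => (LinearMap.cancel_right hp).1 h)
        (fun ψ => by
          obtain ⟨f, hf⟩ := exists_extend p hp ψ
          exact ⟨f, LinearMap.ext hf⟩)
    haveI := hasInjectiveDimensionLT_hom_free ω a
    let Z := ModuleCat.of O (N →ₗ[O] ↥ω)
    haveI hvan : ∀ j, Subsingleton (Abelian.Ext Z T.X₂ (j + 1)) := fun j =>
      subsingleton_ext (N →ₗ[O] ↥ω) T.X₂ (j + 1) (by omega)
    cases i with
    | zero =>
      let δ : (S.X₁ ⟶ ModuleCat.of O N) →+ Abelian.Ext S.X₃ (ModuleCat.of O N) 1 :=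
        (hS.extClass.precomp (ModuleCat.of O N) (add_zero 1)).comp Abelian.Ext.addEquiv₀.symm.toAddMonoidHom
      let δ' : (Z ⟶ T.X₃) →+ Abelian.Ext Z T.X₁ 1 :=
        (hT.extClass.postcomp Z (zero_add 1)).comp Abelian.Ext.addEquiv₀.symm.toAddMonoidHom
      have hδ : Function.Surjective δ := fun x => by
        obtain ⟨y, hy⟩ := Abelian.Ext.contravariant_sequence_exact₃ hS (ModuleCat.of O N) x
          (Abelian.Ext.eq_zero_of_projective _) (n₀ := 0) rfl
        exact ⟨Abelian.Ext.addEquiv₀ y, by
          show (hS.extClass.precomp (ModuleCat.of O N) (add_zero 1)) (Abelian.Ext.addEquiv₀.symm (Abelian.Ext.addEquiv₀ y)) = x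
          rw [AddEquiv.symm_apply_apply]
          exact hy⟩
      have hδ' : Function.Surjective δ' := fun x => by
        obtain ⟨y, hy⟩ := Abelian.Ext.covariant_sequence_exact₁ Z hT x
          ((hvan 0).elim _ _) (n₀ := 0) rfl
        exact ⟨Abelian.Ext.addEquiv₀ y, by
          show (hT.extClass.postcomp Z (zero_add 1)) (Abelian.Ext.addEquiv₀.symm (Abelian.Ext.addEquiv₀ y)) = x
          rw [AddEquiv.symm_apply_apply]
          exact hy⟩
      refine nonempty_addEquiv_of_ker_eq δ (δ'.comp (dualMap ω ↥Ω N)) hδ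
        (hδ'.comp (dualMap_bijective hdim ω hω0 hωfg ↥Ω N).2) fun f => ?_
      constructor
      · intro h
        obtain ⟨y, hy⟩ := Abelian.Ext.contravariant_sequence_exact₁ hS (ModuleCat.of O N) (Abelian.Ext.mk₀ f) (add_zero 1) h
        obtain ⟨g, rfl⟩ := Abelian.Ext.homEquiv₀.symm.surjective y
        simp only [Abelian.Ext.homEquiv₀_symm_apply, Abelian.Ext.mk₀_comp_mk₀] at hy
        have hgf : S.f ≫ g = f := Abelian.Ext.homEquiv₀.symm.injective (by simpa using hy)
        show (Abelian.Ext.mk₀ (dualMap ω ↥Ω N f)).comp hT.extClass (zero_add 1) = 0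
        rw [← hgf, show dualMap ω ↥Ω N (S.f ≫ g) = dualMap ω (Fin a → O) N g ≫ T.g from rfl,
          ← Abelian.Ext.mk₀_comp_mk₀, Abelian.Ext.comp_assoc (a₂ := 0) (a₁₂ := 0) (a₂₃ := 1) _ _ _ (zero_add 0)
            (zero_add 1) (by omega), ShortComplex.ShortExact.comp_extClass, Abelian.Ext.comp_zero]
      · intro h
        obtain ⟨y, hy⟩ := Abelian.Ext.covariant_sequence_exact₃ Z hT (Abelian.Ext.mk₀ (dualMap ω ↥Ω N f)) (zero_add 1) h
        obtain ⟨g', rfl⟩ := Abelian.Ext.homEquiv₀.symm.surjective y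
        simp only [Abelian.Ext.homEquiv₀_symm_apply, Abelian.Ext.mk₀_comp_mk₀] at hy
        have hgf : g' ≫ T.g = dualMap ω ↥Ω N f := Abelian.Ext.homEquiv₀.symm.injective (by simpa using hy)
        obtain ⟨g, rfl⟩ := (dualMap_bijective hdim ω hω0 hωfg (Fin a → O) N).2 g'
        have hf : S.f ≫ g = f := (dualMap_bijective hdim ω hω0 hωfg ↥Ω N).1 hgf
        show hS.extClass.comp (Abelian.Ext.mk₀ f) (add_zero 1) = 0
        rw [← hf, ← Abelian.Ext.mk₀_comp_mk₀, ← Abelian.Ext.comp_assoc (a₁ := 1) (a₁₂ := 1) (a₂₃ := 0) _ _ _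
          (add_zero 1) (zero_add 0) (by omega), ShortComplex.ShortExact.extClass_comp, Abelian.Ext.zero_comp]
    | succ i =>
      let δ : Abelian.Ext S.X₁ (ModuleCat.of O N) (i + 1) →+ Abelian.Ext S.X₃ (ModuleCat.of O N) (i + 1 + 1) :=
        hS.extClass.precomp (ModuleCat.of O N) (add_comm 1 (i + 1))
      let δ' : Abelian.Ext Z T.X₃ (i + 1) →+ Abelian.Ext Z T.X₁ (i + 1 + 1) :=
        hT.extClass.postcomp Z rfl
      have hδ : Function.Bijective δ := by
        refine ⟨(injective_iff_map_eq_zero δ).2 fun x hx => ?_, fun x => ?_⟩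
        · obtain ⟨y, hy⟩ := Abelian.Ext.contravariant_sequence_exact₁ hS (ModuleCat.of O N) x (add_comm 1 (i + 1)) hx
          rw [← hy, Abelian.Ext.eq_zero_of_projective y, Abelian.Ext.comp_zero]
        · exact Abelian.Ext.contravariant_sequence_exact₃ hS (ModuleCat.of O N) x
            (Abelian.Ext.eq_zero_of_projective _) (add_comm 1 (i + 1))
      have hδ' : Function.Bijective δ' := by
        refine ⟨(injective_iff_map_eq_zero δ').2 fun x hx => ?_, fun x => ?_⟩
        · obtain ⟨y, hy⟩ := Abelian.Ext.covariant_sequence_exact₃ Z hT x rfl hx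
          rw [← hy, show y = 0 from (hvan i).elim _ _, Abelian.Ext.zero_comp]
        · exact Abelian.Ext.covariant_sequence_exact₁ Z hT x ((hvan (i + 1)).elim _ _) rfl
      obtain ⟨e⟩ := ih ↥Ω
      exact ⟨((AddEquiv.ofBijective δ hδ).symm.trans e).trans (AddEquiv.ofBijective δ' hδ')⟩

end Groth.Agent.CanDual17
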