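import Groth.Agent.Lib.CanDual17.Lattice

/-!
# Normal forms of lattices over a one-dimensional Gorenstein domain
-/

set_option autoImplicit false
set_option backward.isDefEq.respectTransparency.types false
set_option linter.style.haveILetI false
universe u

open IsLocalRing CategoryTheory TensorProduct

namespace Groth.Agent.CanDual17

variable {O : Type u} [CommRing O] [IsDomain O] [LocCoh.IsGorensteinLocalRing O]
  {K : Type u} [Field K] [Algebra O K] [IsFractionRing O K]
  (hdim : ringKrullDim O = 1) (hfin : Module.Finite O ↥(integralClosure O K))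

omit [IsDomain O] [IsFractionRing O K] [LocCoh.IsGorensteinLocalRing O] in
theorem piSub_mono {n : ℕ} {S T : Submodule O K} (h : S ≤ T) : piSub n S ≤ piSub n T :=
  fun _ hx i hi => h (hx i hi)

include hdim hfin in
/-- Torsion-free modules over a Gorenstein curve singularity lie between the conductor and the free module. -/
theorem exists_between_cond_and_free [IsAlgClosed (ResidueField O)] (M : Type u) [AddCommGroup M] [Module O M]
    [Module.Finite O M] [NoZeroSMulDivisors O M] (n : ℕ) (hn : Module.finrank K (K ⊗[O] M) = n) :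
    ∃ M'' : Submodule O (Fin n → K), piSub n (cond O K) ≤ M'' ∧ M'' ≤ piSub n 1 ∧ Nonempty (M ≃ₗ[O] ↥M'') := by
  haveI := krullDimLE_of_dim hdim
  haveI := hasInjectiveDimensionLT_one (O := O) (K := K) hdim
  have hnf := not_isField_of_dim hdim
  obtain ⟨M', hM1, hM2, ⟨e⟩⟩ := TFLat17.exists_lattice (K := K) hdim hfin M n hn
  have hfg : M'.FG := (pi_fg (norm_fg hfin) n).of_le hM2
  have hspan : Submodule.span K (M' : Set (Fin n → K)) = ⊤ := span_eq_top_mono hM1 (span_pi span_one n)
  let D := dual (dot K n) (1 : Submodule O K) M'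
  have hDfg : D.FG := dual_fg (dot_bijective n) one_fg hfg hspan
  have hDspan : Submodule.span K (D : Set (Fin n → K)) = ⊤ := dual_span_eq_top span_one hfg
  obtain ⟨ψ, hψ1, hψ2⟩ := TFLat17.exists_frame hdim hfin D hDfg hDspan
  let ψO : (Fin n → K) ≃ₗ[O] (Fin n → K) := ψ.restrictScalars O
  let N := D.map (ψ.toLinearMap.restrictScalars O)
  refine ⟨dual (dot K n) 1 N, ?_, ?_, ?_⟩
  · exact (dual_pi (1 : Submodule O K) (norm O K) n).ge.trans (dual_anti hψ2)
  · refine (dual_anti hψ1).trans ?_
    rw [dual_pi, dual_one]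
  · have hNspan : Submodule.span K (N : Set (Fin n → K)) = ⊤ := span_eq_top_mono hψ1 (span_pi span_one n)
    let f : ↥D ≃ₗ[O] ↥N := ψO.submoduleMap D
    have hDD : dual (dot K n) (1 : Submodule O K) D = M' :=
      dual_dual hnf (1 : Submodule O K) one_ne_bot one_fg (dot_bijective n) dot_symm hfg hspan
    exact ⟨(e.trans (LinearEquiv.ofEq _ _ hDD.symm)).trans
      (((dualEquiv (dot K n) (1 : Submodule O K) (dot_bijective n) hDspan).trans (f.arrowCongr (LinearEquiv.refl O _))).trans
        (dualEquiv (dot K n) (1 : Submodule O K) (dot_bijective n) hNspan).symm)⟩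

set_option maxHeartbeats 1000000 in
include hdim hfin in
/-- The normal form of Greuel and Knörrer. -/
theorem exists_lattice_colength [IsAlgClosed (ResidueField O)] (M : Type u) [AddCommGroup M] [Module O M]
    [Module.Finite O M] [NoZeroSMulDivisors O M] (n : ℕ) (hn : Module.finrank K (K ⊗[O] M) = n) :
    ∃ M' : Submodule O (Fin n → K), piSub n (cond O K) ≤ M' ∧ M' ≤ piSub n (norm O K) ∧ Nonempty (M ≃ₗ[O] ↥M') ∧
      len (piSub n (cond O K)) M' = (n : ℕ∞) * len (cond O K) 1 := by
  classical
  haveI := krullDimLE_of_dim hdim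
  haveI := hasInjectiveDimensionLT_one (O := O) (K := K) hdim
  have hnf := not_isField_of_dim hdim
  have hpsymm : ∀ x y : Fin n → K, dot K n x y = dot K n y x := dot_symm
  obtain ⟨M₀, hM1, hM2, ⟨e⟩⟩ := TFLat17.exists_lattice (K := K) hdim hfin M n hn
  have hPfg := norm_fg hfin
  have hPspan : Submodule.span K (norm O K : Set K) = ⊤ := span_eq_top_mono one_le_norm span_one
  have hCspan : Submodule.span K (cond O K : Set K) = ⊤ := dual_span_eq_top span_one hPfg
  have hnn : len (1 : Submodule O K) (norm O K) = len (cond O K) 1 := by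
    have h := len_dual hnf (1 : Submodule O K) one_ne_bot one_fg mul_bijective mul_symm hPfg one_le_norm span_one
    rw [dual_one] at h
    exact h.symm
  have hfg : M₀.FG := (pi_fg hPfg n).of_le hM2
  have h1span : Submodule.span K (piSub n (1 : Submodule O K) : Set (Fin n → K)) = ⊤ := span_pi span_one n
  have hspan := span_eq_top_mono hM1 h1span
  have hCn : piSub n (cond O K) ≤ M₀ := (piSub_mono cond_le_one).trans hM1
  -- the dual lattice and its saturation
  set D := dual (dot K n) (1 : Submodule O K) M₀ with hD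
  have hDfg : D.FG := dual_fg (dot_bijective n) one_fg hfg hspan
  have hDspan : Submodule.span K (D : Set (Fin n → K)) = ⊤ := dual_span_eq_top span_one hfg
  have hD1 : D ≤ piSub n 1 := (dual_anti hM1).trans (by rw [dual_pi, dual_one])
  obtain ⟨ψ, hψ1, hψ2⟩ := TFLat17.exists_frame hdim hfin D hDfg hDspan
  let ψO : (Fin n → K) ≃ₗ[O] (Fin n → K) := ψ.restrictScalars O
  set L : Submodule O (Fin n → K) := (piSub n (norm O K)).map ψO.symm.toLinearMap with hL
  have hDL : D ≤ L := fun x hx => ⟨ψ x, hψ2 ⟨x, hx, rfl⟩, ψ.symm_apply_apply x⟩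
  have hLs : ∀ b ∈ norm O K, ∀ x ∈ L, b • x ∈ L := by
    rintro b hb _ ⟨y, hy, rfl⟩
    exact ⟨b • y, fun i hi => (integralClosure O K).mul_mem hb (hy i hi), map_smul ψ.symm b y⟩
  have hLP : L ≤ piSub n (norm O K) := by
    rintro _ ⟨y, hy, rfl⟩ j hj
    show ψ.symm y j ∈ norm O K
    rw [← Finset.univ_sum_single y, map_sum, Finset.sum_apply]
    refine Submodule.sum_mem _ fun i _ => ?_
    obtain ⟨d, hd, hd'⟩ := hψ1 (x := Pi.single i 1) fun l _ => by
      rcases eq_or_ne l i with rfl | hli
      · simpa using Submodule.mem_one.2 ⟨1, map_one _⟩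
      · simp [hli]
    rw [show (Pi.single i (y i) : Fin n → K) = y i • (Pi.single i 1 : Fin n → K) by
        ext l
        rcases eq_or_ne l i with rfl | hli <;> simp [*],
      map_smul, ← show ψ d = (Pi.single i 1 : Fin n → K) from hd', ψ.symm_apply_apply, Pi.smul_apply, smul_eq_mul]
    exact (integralClosure O K).mul_mem (hy i trivial) (one_le_norm (hD1 hd j hj))
  have hLfg : L.FG := (pi_fg hPfg n).map _
  set E := dual (dot K n) (1 : Submodule O K) L with hE
  have hEM : E ≤ M₀ := (dual_anti hDL).trans (le_of_eq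
    (dual_dual hnf (1 : Submodule O K) one_ne_bot one_fg (dot_bijective n) dot_symm hfg hspan))
  have hCE : piSub n (cond O K) ≤ E := (dual_pi (1 : Submodule O K) (norm O K) n).ge.trans (dual_anti hLP)
  have hEs : ∀ b ∈ norm O K, ∀ x ∈ E, b • x ∈ E := fun b hb x hx y hy => by
    show dot K n (b • x) y ∈ (1 : Submodule O K)
    rw [map_smul, LinearMap.smul_apply, ← map_smul (dot K n x)]
    exact hx _ (hLs b hb y hy)
  -- counting
  set δ := len (cond O K) (1 : Submodule O K) with hδ
  have hfinlen : ∀ {N N' : Submodule O (Fin n → K)}, piSub n (cond O K) ≤ N → N' ≤ piSub n (norm O K) → len N N' ≠ ⊤ :=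
    fun {N N'} h h' => by
      obtain ⟨c, hc, hcN⟩ := exists_denominator ((pi_fg hPfg n).of_le h') (span_eq_top_mono h (span_pi hCspan n))
      exact len_ne_top ((pi_fg hPfg n).of_le h') hc hcN
  have l1 : len (piSub n 1) (piSub n (norm O K)) = (n : ℕ∞) * δ := by rw [len_pi, Fintype.card_fin, hnn]
  have l0 : len (piSub n (cond O K)) (piSub n (1 : Submodule O K)) = (n : ℕ∞) * δ := by
    rw [len_pi, Fintype.card_fin]
  have l2 : len E M₀ ≤ (n : ℕ∞) * δ := by
    have h := len_dual hnf (1 : Submodule O K) one_ne_bot one_fg (dot_bijective n) hpsymm hLfg hDL hDspan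
    rw [hD, dual_dual hnf (1 : Submodule O K) one_ne_bot one_fg (dot_bijective n) dot_symm hfg hspan, ← hE, ← hD] at h
    rw [h, ← len_map ψO D L, show L.map ψO.toLinearMap = piSub n (norm O K) by
      rw [hL, ← Submodule.map_comp]; simp]
    exact (len_mono_left hψ1 hψ2).trans l1.le
  obtain ⟨d, hd⟩ := ENat.ne_top_iff_exists.1 (hfinlen hCn (N' := piSub n (norm O K)) le_rfl)
  obtain ⟨ev, hev⟩ := ENat.ne_top_iff_exists.1 (hfinlen (le_refl (piSub n (cond O K))) (N' := E) (hEM.trans hM2))
  obtain ⟨g0, hg0⟩ := ENat.ne_top_iff_exists.1 (hfinlen hCE (N' := M₀) hM2)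
  obtain ⟨nd, hnd⟩ := ENat.ne_top_iff_exists.1 (l1 ▸ hfinlen (piSub_mono cond_le_one) le_rfl)
  have hd_le : d ≤ nd := by
    have h := len_mono_left hM1 hM2
    rw [l1, ← hd, ← hnd] at h
    exact_mod_cast h
  have hsum : ev + g0 + d = nd + nd := by
    have h : len (piSub n (cond O K)) E + len E M₀ + len M₀ (piSub n (norm O K)) =
        len (piSub n (cond O K)) (piSub n 1) + len (piSub n 1) (piSub n (norm O K)) := by
      rw [len_add hCE hEM, len_add hCn hM2, len_add (piSub_mono cond_le_one) (piSub_mono one_le_norm)]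
    rw [l0, l1, ← hev, ← hg0, ← hd, ← hnd] at h
    exact_mod_cast h
  have hg0le : g0 ≤ nd := by
    rw [← hg0, ← hnd] at l2
    exact_mod_cast l2
  obtain ⟨W, hCW, hWE, hWs, hWl⟩ := exists_stable_between (W₀ := piSub n (cond O K)) hdim hfin
    ((pi_fg hPfg n).of_le (hEM.trans hM2)) (fun b hb x hx i hi => mul_mem_cond hb (hx i hi)) hEs hCE (span_pi hCspan n) (nd - d)
    (by rw [← hev]; exact_mod_cast (show nd - d ≤ ev by omega))
  -- a frame of the stable lattice and a generator of the conductor
  obtain ⟨hdom, hpid⟩ := TFLat17.isPID_integralClosure (K := K) hdim hfin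
  haveI := hfin; haveI := hdom; haveI := hpid
  haveI := TFLat17.isFractionRing_integralClosure O (K := K)
  let B := ↥(integralClosure O K)
  let WB : Submodule B (Fin n → K) :=
    { carrier := W, add_mem' := W.add_mem, zero_mem' := W.zero_mem, smul_mem' := fun b x hx => hWs _ b.2 x hx }
  have hWfg : W.FG := (pi_fg hPfg n).of_le (hWE.trans (hEM.trans hM2))
  haveI : Module.Finite B ↥WB := Module.Finite.iff_fg.2 (by
    obtain ⟨s, hs⟩ := hWfg
    refine ⟨s, le_antisymm (Submodule.span_le.2 fun x hx => show x ∈ W from hs ▸ Submodule.subset_span hx) fun x hx => ?_⟩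
    have hx' : x ∈ Submodule.span O (s : Set (Fin n → K)) := hs.symm ▸ hx
    induction hx' using Submodule.span_induction with
    | mem y hy => exact Submodule.subset_span hy
    | zero => exact Submodule.zero_mem _
    | add p q hp hq ihp ihq => exact Submodule.add_mem _ (ihp (show p ∈ W from hs ▸ hp)) (ihq (show q ∈ W from hs ▸ hq))
    | smul r p hp ihp =>
      rw [← IsScalarTower.algebraMap_smul B r p]
      exact Submodule.smul_mem _ _ (ihp (show p ∈ W from hs ▸ hp)))
  haveI : NoZeroSMulDivisors B ↥WB := ⟨fun {b v} h => by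
    by_cases hb : b = 0
    · exact Or.inl hb
    refine Or.inr (Subtype.ext ?_)
    have h' := congrArg Subtype.val h
    rw [Submodule.coe_smul, ← IsScalarTower.algebraMap_smul K b, Submodule.coe_zero, smul_eq_zero] at h'
    exact h'.resolve_left ((map_ne_zero_iff _ (IsFractionRing.injective B K)).2 hb)⟩
  obtain ⟨m, bW⟩ := Module.basisOfFiniteTypeTorsionFree' (R := B) (M := ↥WB)
  let w : Fin m → (Fin n → K) := fun i => (bW i : Fin n → K)
  have hli : LinearIndependent K w :=
    (LinearIndependent.iff_fractionRing B K).1 (bW.linearIndependent.map' WB.subtype (Submodule.ker_subtype WB))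
  have hwW : ∀ x ∈ W, ∃ c : Fin m → B, x = ∑ i, (c i : K) • w i := fun x hx => ⟨fun i => bW.repr ⟨x, hx⟩ i, by
    have h := congrArg Subtype.val (bW.sum_repr ⟨x, hx⟩)
    simp only [Submodule.coe_sum, Submodule.coe_smul] at h
    exact h.symm⟩
  have hwspan : ⊤ ≤ Submodule.span K (Set.range w) := by
    rw [← span_eq_top_mono hCW (span_pi hCspan n), Submodule.span_le]
    intro x hx
    obtain ⟨c, rfl⟩ := hwW x hx
    exact Submodule.sum_mem _ fun i _ => Submodule.smul_mem _ _ (Submodule.subset_span ⟨i, rfl⟩)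
  let bK : Module.Basis (Fin m) K (Fin n → K) := Module.Basis.mk hli hwspan
  obtain rfl : m = n := by simpa using (Module.finrank_eq_card_basis bK).symm
  let Cid : Ideal B :=
    { carrier := {b | (b : K) ∈ cond O K}
      add_mem' := fun {a b} ha hb => (cond O K).add_mem ha hb
      zero_mem' := (cond O K).zero_mem
      smul_mem' := fun a b hb => mul_mem_cond a.2 hb }
  let γ : B := Submodule.IsPrincipal.generator Cid
  have hγC : (γ : K) ∈ cond O K := Submodule.IsPrincipal.generator_mem Cid
  have hC : ∀ x ∈ cond O K, ∃ b : B, (b : K) * γ = x := fun x hx => by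
    obtain ⟨b, hb⟩ := (Submodule.IsPrincipal.mem_iff_eq_smul_generator Cid).1
      (show (⟨x, one_le_norm (cond_le_one hx)⟩ : B) ∈ Cid from hx)
    exact ⟨b, (congrArg Subtype.val hb).symm⟩
  have hγ0 : (γ : K) ≠ 0 := fun h => by
    obtain ⟨c, hc, hc1⟩ := exists_smul_mem hCspan (1 : K)
    obtain ⟨b, hb⟩ := hC _ hc1
    rw [h, mul_zero] at hb
    exact one_ne_zero (eq_zero_of_smul_eq_zero K hc hb.symm)
  let g : (Fin m → K) ≃ₗ[K] (Fin m → K) := bK.equivFun.trans (LinearEquiv.smulOfUnit (Units.mk0 (γ : K) hγ0))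
  let gO : (Fin m → K) ≃ₗ[O] (Fin m → K) := g.restrictScalars O
  have hgw : ∀ c : Fin m → K, g (∑ i, c i • w i) = fun i => (γ : K) * c i := fun c => by
    have h : bK.equivFun (∑ i, c i • w i) = c := by
      rw [show (∑ i, c i • w i) = bK.equivFun.symm c from (by
        rw [Module.Basis.equivFun_symm_apply]
        exact Finset.sum_congr rfl fun i _ => congrArg _ (Module.Basis.mk_apply hli hwspan i).symm)]
      exact bK.equivFun.apply_symm_apply c
    show (γ : K) • bK.equivFun (∑ i, c i • w i) = _
    rw [h]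
    rfl
  have hgW : W.map gO.toLinearMap = piSub m (cond O K) := by
    ext x
    constructor
    · rintro ⟨y, hy, rfl⟩ i -
      obtain ⟨c, rfl⟩ := hwW y hy
      show g _ i ∈ _
      rw [hgw]
      show (γ : K) * (c i : K) ∈ cond O K
      rw [mul_comm]
      exact mul_mem_cond (c i).2 hγC
    · intro hx
      choose b hb using fun i => hC (x i) (hx i trivial)
      refine ⟨∑ i, (b i : K) • w i, W.sum_mem fun i _ => hWs _ (b i).2 _ (bW i).2, ?_⟩
      show g _ = x
      rw [hgw]
      exact funext fun i => by rw [mul_comm]; exact hb i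
  -- the scaled lattice
  let sc : (Fin m → K) ≃ₗ[O] (Fin m → K) := scale (γ : K) hγ0
  have hscP : (piSub m (norm O K)).map sc.toLinearMap = piSub m (cond O K) := by
    ext x
    constructor
    · rintro ⟨y, hy, rfl⟩ i -
      show (γ : K) * y i ∈ cond O K
      rw [mul_comm]
      exact mul_mem_cond (hy i trivial) hγC
    · intro hx
      choose b hb using fun i => hC (x i) (hx i trivial)
      exact ⟨fun i => (b i : K), fun i _ => (b i).2, funext fun i => (mul_comm _ _).trans (hb i)⟩
  have hcomm : ∀ S : Submodule O (Fin m → K),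
      (S.map gO.toLinearMap).map sc.toLinearMap = (S.map sc.toLinearMap).map gO.toLinearMap := fun S => by
    rw [← Submodule.map_comp, ← Submodule.map_comp]
    congr 1
    exact LinearMap.ext fun v => (map_smul g (γ : K) v).symm
  have hgCC : ((piSub m (cond O K)).map gO.toLinearMap) ≤ piSub m (cond O K) :=
    (Submodule.map_mono hCW).trans hgW.le
  have hgP : (piSub m (norm O K)).map gO.toLinearMap ≤ piSub m (norm O K) := fun x hx => by
    have h : sc x ∈ ((piSub m (norm O K)).map gO.toLinearMap).map sc.toLinearMap := ⟨x, hx, rfl⟩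
    rw [hcomm, hscP] at h
    have h' := hgCC h
    rw [← hscP] at h'
    obtain ⟨y, hy, hxy⟩ := h'
    exact sc.injective hxy ▸ hy
  refine ⟨M₀.map gO.toLinearMap, hgW.ge.trans (Submodule.map_mono (hWE.trans hEM)), (Submodule.map_mono hM2).trans hgP,
    ⟨e.trans (gO.submoduleMap M₀)⟩, ?_⟩
  have l3 : len ((piSub m (norm O K)).map gO.toLinearMap) (piSub m (norm O K)) = ((nd - d : ℕ) : ℕ∞) := by
    rw [← hWl, ← len_map gO (piSub m (cond O K)) W, hgW]
    rw [← len_map sc ((piSub m (norm O K)).map gO.toLinearMap) (piSub m (norm O K)), hcomm, hscP]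
  have l4 : len (M₀.map gO.toLinearMap) (piSub m (norm O K)) = (nd : ℕ∞) := by
    rw [← len_add (Submodule.map_mono hM2) hgP, len_map, ← hd, l3, ← Nat.cast_add, Nat.add_sub_cancel' hd_le]
  have h := len_add (hgW.ge.trans (Submodule.map_mono (hWE.trans hEM))) ((Submodule.map_mono hM2).trans hgP)
  have h0 := len_add (piSub_mono (n := m) (cond_le_one (O := O) (K := K))) (piSub_mono one_le_norm)
  rw [l4, ← h0, l0, l1, ← hnd] at h
  rw [← hnd]
  exact WithTop.add_right_cancel (ENat.natCast_ne_top nd) h

end Groth.Agent.CanDual17
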