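import Groth.Agent.Lib.CanDual17.ExtDual
import Groth.Agent.Lib.TFLat17.Basic

/-!
# Lattices over a one-dimensional Gorenstein domain between the conductor and the normalisation
-/

set_option autoImplicit false
set_option backward.isDefEq.respectTransparency.types false
set_option linter.style.haveILetI false
universe u

open IsLocalRing CategoryTheory TensorProduct

namespace Groth.Agent.CanDual17

variable {O : Type u} [CommRing O] [IsDomain O] {K : Type u} [Field K] [Algebra O K] [IsFractionRing O K]

omit [IsDomain O] [IsFractionRing O K] in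
theorem dual_pi (ω S : Submodule O K) (n : ℕ) :
    dual (dot K n) ω (Submodule.pi Set.univ fun _ : Fin n => S) =
      Submodule.pi Set.univ fun _ : Fin n => dual (LinearMap.mul K K) ω S := by
  classical
  ext y
  constructor
  · intro hy i _ s hs
    have h := hy (Pi.single i s) fun j _ => by
      rcases eq_or_ne j i with rfl | hji
      · simpa using hs
      · simp [hji]
    simpa [dot_apply, Pi.single_apply] using h
  · intro hy x hx
    rw [dot_apply]
    exact Submodule.sum_mem _ fun i _ => hy i trivial _ (hx i trivial)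

variable [IsNoetherianRing O] [IsLocalRing O]

omit [IsLocalRing O] in
theorem pi_fg {S : Submodule O K} (hS : S.FG) (n : ℕ) : (Submodule.pi Set.univ fun _ : Fin n => S).FG := by
  haveI : Module.Finite O ↥S := Module.Finite.iff_fg.2 hS
  let f : (Fin n → ↥S) →ₗ[O] (Fin n → K) := LinearMap.pi fun i => S.subtype.comp (LinearMap.proj i)
  have hf : Submodule.map f ⊤ = Submodule.pi Set.univ fun _ : Fin n => S := by
    ext x
    constructor
    · rintro ⟨y, -, rfl⟩ i -
      exact (y i).2
    · intro hx
      exact ⟨fun i => ⟨x i, hx i trivial⟩, trivial, rfl⟩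
  exact hf ▸ Module.Finite.fg_top.map f

omit [IsLocalRing O] in
theorem span_pi {S : Submodule O K} (hS : Submodule.span K (S : Set K) = ⊤) (n : ℕ) :
    Submodule.span K ((Submodule.pi Set.univ fun _ : Fin n => S : Submodule O (Fin n → K)) : Set (Fin n → K)) = ⊤ := by
  classical
  refine span_eq_top fun v => ?_
  choose c hc hcv using fun i => exists_smul_mem (M := S) hS (v i)
  refine ⟨∏ i, c i, Finset.prod_ne_zero_iff.2 fun i _ => hc i, fun i _ => ?_⟩
  show (∏ j, c j) • v i ∈ S
  rw [← Finset.prod_erase_mul Finset.univ c (Finset.mem_univ i), mul_smul]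
  exact S.smul_mem _ (hcv i)

/-- The normalisation as a submodule of the fraction field. -/
abbrev norm (O K : Type u) [CommRing O] [Field K] [Algebra O K] : Submodule O K :=
  Subalgebra.toSubmodule (integralClosure O K)

/-- The conductor as a submodule of the fraction field. -/
abbrev cond (O K : Type u) [CommRing O] [Field K] [Algebra O K] : Submodule O K :=
  dual (LinearMap.mul K K) 1 (norm O K)

/-- The standard lattices. -/
abbrev piSub {O K : Type u} [CommRing O] [Field K] [Algebra O K] (n : ℕ) (S : Submodule O K) :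
    Submodule O (Fin n → K) := Submodule.pi Set.univ fun _ => S

omit [IsDomain O] [IsFractionRing O K] [IsNoetherianRing O] [IsLocalRing O] in
theorem one_le_norm : (1 : Submodule O K) ≤ norm O K := fun x hx => by
  obtain ⟨r, rfl⟩ := Submodule.mem_one.1 hx
  exact (integralClosure O K).algebraMap_mem r

omit [IsDomain O] [IsFractionRing O K] [IsNoetherianRing O] [IsLocalRing O] in
theorem cond_le_one : cond O K ≤ 1 := fun x hx => by
  simpa using hx 1 (integralClosure O K).one_mem

omit [IsDomain O] [IsFractionRing O K] [IsNoetherianRing O] [IsLocalRing O] in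
theorem mul_mem_cond {b x : K} (hb : b ∈ norm O K) (hx : x ∈ cond O K) : b * x ∈ cond O K := fun y hy => by
  show b * x * y ∈ (1 : Submodule O K)
  rw [mul_comm b, mul_assoc]
  exact hx _ ((integralClosure O K).mul_mem hb hy)

variable (hdim : ringKrullDim O = 1) (hfin : Module.Finite O ↥(integralClosure O K))

include hfin in
theorem norm_fg : (norm O K).FG :=
  Module.Finite.iff_fg.1 (show Module.Finite O ↥(norm O K) from hfin)

omit [IsFractionRing O K] [IsNoetherianRing O] in
theorem isBStable_sup [IsAlgClosed (ResidueField O)] {m : ℕ} {N : Submodule O (Fin m → K)} {z : Fin m → K}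
    (hN : ∀ b ∈ norm O K, ∀ x ∈ N, b • x ∈ N) {q : Ideal ↥(integralClosure O K)} [q.IsMaximal]
    (hfin : Module.Finite O ↥(integralClosure O K))
    (hq : ∀ b ∈ q, (b : K) • z ∈ N) :
    ∀ b ∈ norm O K, ∀ x ∈ N ⊔ Submodule.span O {z}, b • x ∈ N ⊔ Submodule.span O {z} := by
  haveI := hfin
  intro b hb x hx
  obtain ⟨p, hp, w, hw, rfl⟩ := Submodule.mem_sup.1 hx
  obtain ⟨r, rfl⟩ := Submodule.mem_span_singleton.1 hw
  rw [smul_add, smul_comm]
  refine Submodule.add_mem _ (Submodule.mem_sup_left (hN b hb p hp)) (Submodule.smul_mem _ r ?_)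
  obtain ⟨o, ho⟩ := TFLat17.surjective_residue (O := O) q (Ideal.Quotient.mk q ⟨b, hb⟩)
  have h1 : ((⟨b, hb⟩ : ↥(integralClosure O K)) - algebraMap O ↥(integralClosure O K) o) ∈ q :=
    Ideal.Quotient.eq.1 ho.symm
  have h2 : (b - algebraMap O K o) • z ∈ N := hq _ h1
  rw [show b • z = (b - algebraMap O K o) • z + algebraMap O K o • z by rw [← add_smul, sub_add_cancel]]
  refine Submodule.add_mem _ (Submodule.mem_sup_left h2) (Submodule.mem_sup_right ?_)
  rw [algebraMap_smul]
  exact Submodule.smul_mem _ o (Submodule.mem_span_singleton_self z)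

include hdim hfin in
/-- Stable lattices have stable intermediate lattices of every colength. -/
theorem exists_stable_between [IsAlgClosed (ResidueField O)] {m : ℕ} {W₀ W₁ : Submodule O (Fin m → K)}
    (hW₁fg : W₁.FG) (h₀ : ∀ b ∈ norm O K, ∀ x ∈ W₀, b • x ∈ W₀) (h₁ : ∀ b ∈ norm O K, ∀ x ∈ W₁, b • x ∈ W₁)
    (hle : W₀ ≤ W₁) (hspan : Submodule.span K (W₀ : Set (Fin m → K)) = ⊤) (q : ℕ) (hq : (q : ℕ∞) ≤ len W₀ W₁) :
    ∃ W, W₀ ≤ W ∧ W ≤ W₁ ∧ (∀ b ∈ norm O K, ∀ x ∈ W, b • x ∈ W) ∧ len W₀ W = q := by
  haveI := krullDimLE_of_dim hdim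
  induction q with
  | zero => exact ⟨W₀, le_rfl, hle, h₀, len_self W₀⟩
  | succ q ih =>
    obtain ⟨W, hW0, hW1, hWs, hWl⟩ := ih (le_trans (by exact_mod_cast Nat.le_succ q) hq)
    have hne : ¬ W₁ ≤ W := fun h => by
      rw [← le_antisymm hW1 h, hWl] at hq
      exact absurd (ENat.coe_le_coe.1 hq) (by omega)
    obtain ⟨c, hc, hcW⟩ := exists_denominator hW₁fg (span_eq_top_mono hW0 hspan)
    obtain ⟨x, hx, hxW⟩ := SetLike.not_le_iff_exists.1 hne
    -- a maximal annihilator among the elements outside `W`
    let B := ↥(integralClosure O K)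
    haveI := hfin
    haveI : IsNoetherianRing B := IsNoetherianRing.of_finite O B
    let ann : (Fin m → K) → Ideal B := fun v =>
      { carrier := {b | (b : K) • v ∈ W}
        add_mem' := fun {a b} ha hb => by
          show ((a : K) + b) • v ∈ W
          rw [add_smul]; exact W.add_mem ha hb
        zero_mem' := by show (0 : K) • v ∈ W; rw [zero_smul]; exact W.zero_mem
        smul_mem' := fun a b hb => by
          show ((a : K) * b) • v ∈ W
          rw [mul_smul]; exact hWs _ a.2 _ hb }
    obtain ⟨I, ⟨z, ⟨hzW₁, hzW⟩, rfl⟩, hmax⟩ := set_has_maximal_iff_noetherian.mpr ‹IsNoetherianRing B›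
      {I : Ideal B | ∃ v, (v ∈ W₁ ∧ v ∉ W) ∧ ann v = I} ⟨_, x, ⟨hx, hxW⟩, rfl⟩
    have htop : ann z ≠ ⊤ := fun h => hzW (by
      have h1 : (1 : B) ∈ ann z := h ▸ trivial
      have h2 : ((1 : B) : K) • z ∈ W := h1
      rwa [OneMemClass.coe_one, one_smul] at h2)
    have hprime : (ann z).IsPrime := ⟨htop, fun {a b} hab => or_iff_not_imp_right.2 fun hb => by
      have hbz : (b : K) • z ∈ W₁ ∧ (b : K) • z ∉ W := ⟨h₁ _ b.2 _ hzW₁, hb⟩
      have hle' : ann z ≤ ann ((b : K) • z) := fun r hr => by
        show (r : K) • (b : K) • z ∈ W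
        rw [smul_comm]; exact hWs _ b.2 _ hr
      have heq : ann z = ann ((b : K) • z) := by
        by_contra hne'
        exact hmax _ ⟨_, hbz, rfl⟩ (lt_of_le_of_ne hle' hne')
      rw [heq]
      show (a : K) • (b : K) • z ∈ W
      rw [smul_smul]
      exact hab⟩
    have hcz : algebraMap O B c ∈ ann z := by
      show algebraMap O K c • z ∈ W
      rw [algebraMap_smul]; exact hcW z hzW₁
    haveI : Ring.KrullDimLE 1 O := krullDimLE_of_dim hdim
    haveI hcm : ((ann z).comap (algebraMap O B)).IsMaximal := by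
      haveI := hprime
      refine Ideal.IsPrime.isMaximal_of_ne_bot inferInstance fun h => hc ?_
      have h1 : c ∈ (ann z).comap (algebraMap O B) := hcz
      rwa [h, Ideal.mem_bot] at h1
    haveI hqmax : (ann z).IsMaximal := by
      haveI := hprime
      exact Ideal.isMaximal_of_isIntegral_of_isMaximal_comap (R := O) (ann z) hcm
    have hmz : ∀ r ∈ maximalIdeal O, r • z ∈ W := fun r hr => by
      have h1 : algebraMap O B r ∈ ann z := by
        rw [← IsLocalRing.eq_maximalIdeal ‹((ann z).comap (algebraMap O B)).IsMaximal›] at hr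
        exact hr
      have h2 : algebraMap O K r • z ∈ W := h1
      rwa [algebraMap_smul] at h2
    refine ⟨W ⊔ Submodule.span O {z}, hW0.trans le_sup_left, sup_le hW1 ((Submodule.span_singleton_le_iff_mem z _).2 hzW₁),
      isBStable_sup hWs (q := ann z) hfin (fun b hb => hb), ?_⟩
    rw [← len_add hW0 le_sup_left, hWl, len_sup_span_singleton hzW hmz]
    rfl

end Groth.Agent.CanDual17
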