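import Mathlib.RingTheory.Length
import Mathlib.RingTheory.OrderOfVanishing.Basic
import Mathlib.RingTheory.Ideal.AssociatedPrime.Basic
import Mathlib.RingTheory.LocalRing.ResidueField.Basic
import Mathlib.LinearAlgebra.Dimension.Free
import Mathlib.Tactic

/-!
# Colengths of lattices over a one-dimensional local domain
-/

set_option autoImplicit false
set_option backward.isDefEq.respectTransparency.types false
set_option linter.style.haveILetI false
universe u v

open IsLocalRing

namespace Groth.Agent.CanDual17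

section
variable {O : Type u} [CommRing O] {V : Type v} [AddCommGroup V] [Module O V]

/-- The length of `M / N`. -/
noncomputable def len (N M : Submodule O V) : ℕ∞ := Module.length O (↥M ⧸ Submodule.comap M.subtype N)

theorem len_eq_zero {N M : Submodule O V} : len N M = 0 ↔ M ≤ N := by
  rw [len, Module.length_eq_zero_iff]
  refine (Submodule.Quotient.subsingleton_iff).trans ?_
  rw [Submodule.comap_subtype_eq_top]

theorem len_self (M : Submodule O V) : len M M = 0 := len_eq_zero.2 le_rfl

theorem len_add {N M P : Submodule O V} (h₁ : N ≤ M) (h₂ : M ≤ P) : len N M + len M P = len N P := by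
  refine (Module.length_eq_add_of_exact ((Submodule.comap M.subtype N).mapQ (Submodule.comap P.subtype N)
    (Submodule.inclusion h₂) ?_) (Submodule.factor (Submodule.comap_mono h₁)) ?_ (Submodule.factor_surjective _) ?_).symm
  · intro x hx; exact hx
  · intro a b hab
    obtain ⟨a, rfl⟩ := Submodule.Quotient.mk_surjective _ a
    obtain ⟨b, rfl⟩ := Submodule.Quotient.mk_surjective _ b
    rw [Submodule.mapQ_apply, Submodule.mapQ_apply, Submodule.Quotient.eq] at hab
    rw [Submodule.Quotient.eq]
    exact hab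
  · intro y
    obtain ⟨y, rfl⟩ := Submodule.Quotient.mk_surjective _ y
    constructor
    · intro h
      exact ⟨Submodule.Quotient.mk ⟨y.1, show y.1 ∈ M from (Submodule.Quotient.mk_eq_zero (Submodule.comap P.subtype M) (x := y)).1 h⟩, rfl⟩
    · rintro ⟨z, hz⟩
      obtain ⟨z, rfl⟩ := Submodule.Quotient.mk_surjective _ z
      rw [← hz]
      exact (Submodule.Quotient.mk_eq_zero _).2 z.2

theorem len_mono_left {N N' M : Submodule O V} (h₁ : N ≤ N') (h₂ : N' ≤ M) : len N' M ≤ len N M :=
  len_add h₁ h₂ ▸ le_add_self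

theorem len_mono_right {N M M' : Submodule O V} (h₁ : N ≤ M) (h₂ : M ≤ M') : len N M ≤ len N M' :=
  len_add h₁ h₂ ▸ le_self_add

theorem len_eq_of_mapping {W : Type v} [AddCommGroup W] [Module O W] (f : V →ₗ[O] W) (hf : Function.Injective f)
    (N M : Submodule O V) : len (N.map f) (M.map f) = len N M := by
  refine (LinearEquiv.length_eq (Submodule.Quotient.equiv _ _ (Submodule.equivMapOfInjective f hf M) ?_)).symm
  ext x
  constructor
  · rintro ⟨y, hy, rfl⟩
    exact ⟨y.1, hy, rfl⟩
  · intro hx
    obtain ⟨y, hy, hy'⟩ := x.2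
    obtain ⟨z, hz, hz'⟩ := hx
    refine ⟨⟨y, hy⟩, ?_, Subtype.ext hy'⟩
    have hz'' : f z = f y := hz'.trans hy'.symm
    exact hf hz'' ▸ hz

theorem len_map {W : Type v} [AddCommGroup W] [Module O W] (e : V ≃ₗ[O] W) (N M : Submodule O V) :
    len (N.map e.toLinearMap) (M.map e.toLinearMap) = len N M := len_eq_of_mapping _ e.injective N M

theorem len_pi {ι : Type} [Fintype ι] (N M : Submodule O V) :
    len (Submodule.pi Set.univ fun _ : ι => N) (Submodule.pi Set.univ fun _ : ι => M) =
      (Fintype.card ι : ℕ∞) * len N M := by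
  let π : ↥(Submodule.pi Set.univ fun _ : ι => M) →ₗ[O] (ι → ↥M ⧸ Submodule.comap M.subtype N) :=
    LinearMap.pi fun i => (Submodule.comap M.subtype N).mkQ.comp
      ((LinearMap.proj i).restrict (p := Submodule.pi Set.univ fun _ : ι => M) (q := M) fun x hx => hx i trivial)
  have hπ : Function.Surjective π := fun z => by
    choose w hw using fun i => Submodule.mkQ_surjective _ (z i)
    exact ⟨⟨fun i => (w i).1, fun i _ => (w i).2⟩, funext hw⟩
  have hker : LinearMap.ker π =
      Submodule.comap (Submodule.pi Set.univ fun _ : ι => M).subtype (Submodule.pi Set.univ fun _ : ι => N) := by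
    ext z
    constructor
    · intro hz i _
      have h : Submodule.Quotient.mk (p := Submodule.comap M.subtype N) (⟨(z : ι → V) i, z.2 i trivial⟩ : ↥M) = 0 :=
        congrFun (LinearMap.mem_ker.1 hz) i
      rw [Submodule.Quotient.mk_eq_zero, Submodule.mem_comap] at h
      exact h
    · intro hz
      exact LinearMap.mem_ker.2 (funext fun i => (Submodule.Quotient.mk_eq_zero _).2 (hz i trivial))
  rw [len, len, ← hker, (LinearMap.quotKerEquivOfSurjective π hπ).length_eq, Module.length_pi_of_fintype]
  simp [Finset.sum_const, nsmul_eq_mul]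

variable [IsLocalRing O]

theorem len_sup_span_singleton {N : Submodule O V} {y : V} (hy : y ∉ N) (hm : ∀ r ∈ maximalIdeal O, r • y ∈ N) :
    len N (N ⊔ Submodule.span O {y}) = 1 := by
  have hle : N ≤ N ⊔ Submodule.span O {y} := le_sup_left
  have hyM : y ∈ N ⊔ Submodule.span O {y} := Submodule.mem_sup_right (Submodule.mem_span_singleton_self y)
  let φ : O →ₗ[O] ↥(N ⊔ Submodule.span O {y}) ⧸ Submodule.comap (N ⊔ Submodule.span O {y}).subtype N :=
    LinearMap.toSpanSingleton O _ (Submodule.Quotient.mk ⟨y, hyM⟩)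
  have hsur : Function.Surjective φ := by
    intro q
    obtain ⟨⟨x, hx⟩, rfl⟩ := Submodule.Quotient.mk_surjective _ q
    obtain ⟨a, ha, b, hb, hab⟩ := Submodule.mem_sup.1 hx
    obtain ⟨r, rfl⟩ := Submodule.mem_span_singleton.1 hb
    refine ⟨r, ?_⟩
    rw [LinearMap.toSpanSingleton_apply, ← Submodule.Quotient.mk_smul, Submodule.Quotient.eq, Submodule.mem_comap]
    show r • y - x ∈ N
    rw [← hab, sub_add_cancel_right]
    exact N.neg_mem ha
  have hker : LinearMap.ker φ = maximalIdeal O := by
    ext r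
    rw [LinearMap.mem_ker, LinearMap.toSpanSingleton_apply, ← Submodule.Quotient.mk_smul,
      Submodule.Quotient.mk_eq_zero, Submodule.mem_comap]
    refine ⟨fun h => ?_, hm r⟩
    by_contra hr
    obtain ⟨u, rfl⟩ : IsUnit r := not_not.1 fun h' => hr ((mem_maximalIdeal r).2 h')
    refine hy ?_
    have h2 := N.smul_mem (↑u⁻¹ : O) h
    rwa [show (N ⊔ Submodule.span O {y}).subtype ((u : O) • (⟨y, hyM⟩ : ↥(N ⊔ Submodule.span O {y}))) = (u : O) • y
      from rfl, smul_smul, Units.inv_mul, one_smul] at h2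
  rw [len, ← (LinearMap.quotKerEquivOfSurjective φ hsur).length_eq, hker]
  haveI : IsSimpleModule O (O ⧸ maximalIdeal O) :=
    isSimpleModule_iff_isCoatom.2 (Ideal.isMaximal_def.1 (maximalIdeal.isMaximal O))
  exact Module.length_eq_one _ _

variable [IsDomain O] [IsNoetherianRing O] [Ring.KrullDimLE 1 O]

theorem len_ne_top {N M : Submodule O V} (hM : M.FG) {c : O} (hc : c ≠ 0) (hcM : ∀ x ∈ M, c • x ∈ N) :
    len N M ≠ ⊤ := by
  haveI : Module.Finite O ↥M := Module.Finite.iff_fg.2 hM
  obtain ⟨t, p, hp⟩ := Module.Finite.exists_fin' O ↥M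
  let I : Ideal O := Ideal.span {c}
  let π : (Fin t → O) →ₗ[O] (Fin t → O ⧸ I) := LinearMap.pi fun i => I.mkQ.comp (LinearMap.proj i)
  have hπ : Function.Surjective π := fun z => by
    choose w hw using fun i => Submodule.mkQ_surjective I (z i)
    exact ⟨w, funext hw⟩
  have hker : LinearMap.ker π ≤ LinearMap.ker ((Submodule.comap M.subtype N).mkQ.comp p) := by
    intro z hz
    choose w hw using fun i => Ideal.mem_span_singleton.1 ((Submodule.Quotient.mk_eq_zero I).1 (congrFun hz i))
    rw [LinearMap.mem_ker, LinearMap.comp_apply, Submodule.mkQ_apply, Submodule.Quotient.mk_eq_zero,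
      show z = c • w from funext fun i => hw i, map_smul, Submodule.mem_comap]
    exact hcM _ (p w).2
  have hle : len N M ≤ Module.length O (Fin t → O ⧸ I) :=
    Module.length_le_of_surjective (((LinearMap.ker π).liftQ _ hker).comp
      (LinearMap.quotKerEquivOfSurjective π hπ).symm.toLinearMap) (fun y => by
        obtain ⟨z, rfl⟩ := (Submodule.mkQ_surjective _).comp hp y
        refine ⟨LinearMap.quotKerEquivOfSurjective π hπ (Submodule.Quotient.mk z), ?_⟩
        rw [LinearMap.comp_apply, LinearEquiv.coe_coe, LinearEquiv.symm_apply_apply]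
        rfl)
  refine ne_top_of_le_ne_top ?_ hle
  rw [Module.length_pi_of_fintype]
  refine WithTop.sum_ne_top.2 fun i _ => ?_
  exact Module.length_ne_top_iff.2 (isFiniteLength_quotient_span_singleton O (mem_nonZeroDivisors_of_ne_zero hc))

/-- A strict inclusion with torsion quotient has a first step of length one. -/
theorem exists_step {N M : Submodule O V} (hne : ¬ M ≤ N) {c : O} (hc : c ≠ 0) (hcM : ∀ x ∈ M, c • x ∈ N) :
    ∃ y ∈ M, y ∉ N ∧ ∀ r ∈ maximalIdeal O, r • y ∈ N := by
  obtain ⟨x, hxM, hxN⟩ := SetLike.not_le_iff_exists.1 hne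
  obtain ⟨P, hP, -⟩ := exists_le_isAssociatedPrime_of_isNoetherianRing O
    (Submodule.Quotient.mk ⟨x, hxM⟩ : ↥M ⧸ Submodule.comap M.subtype N)
    (fun h => hxN ((Submodule.Quotient.mk_eq_zero (Submodule.comap M.subtype N) (x := ⟨x, hxM⟩)).1 h))
  obtain ⟨hprime, q, rfl⟩ := isAssociatedPrime_iff.1 hP
  obtain ⟨⟨y, hyM⟩, rfl⟩ := Submodule.Quotient.mk_surjective _ q
  have hcP : c ∈ (⊥ : Submodule O (↥M ⧸ Submodule.comap M.subtype N)).colon {Submodule.Quotient.mk ⟨y, hyM⟩} := by
    rw [Submodule.mem_colon_singleton, Submodule.mem_bot, ← Submodule.Quotient.mk_smul, Submodule.Quotient.mk_eq_zero]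
    exact hcM y hyM
  have hne' : (⊥ : Submodule O (↥M ⧸ Submodule.comap M.subtype N)).colon {Submodule.Quotient.mk ⟨y, hyM⟩} ≠ ⊥ :=
    fun h => hc (by simpa [h] using hcP)
  haveI := hprime
  haveI : ((⊥ : Submodule O (↥M ⧸ Submodule.comap M.subtype N)).colon {Submodule.Quotient.mk ⟨y, hyM⟩}).IsMaximal :=
    hprime.isMaximal_of_ne_bot hne'
  refine ⟨y, hyM, fun h => hprime.ne_top ?_, fun r hr => ?_⟩
  · rw [Ideal.eq_top_iff_one, Submodule.mem_colon_singleton, one_smul, Submodule.mem_bot, Submodule.Quotient.mk_eq_zero]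
    exact h
  · rw [← IsLocalRing.eq_maximalIdeal this, Submodule.mem_colon_singleton, Submodule.mem_bot,
      ← Submodule.Quotient.mk_smul, Submodule.Quotient.mk_eq_zero] at hr
    exact hr

end

end Groth.Agent.CanDual17
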