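import Groth.Agent.Lib.CanDual17.Duality
import Groth.Agent.Lib.Branch.Basic
import Mathlib.RingTheory.PowerSeries.NoZeroDivisors
import Mathlib.RingTheory.Localization.FractionRing
import Mathlib.RingTheory.Finiteness.Finsupp

/-!
# Value sets of canonical duals over a complete unibranch curve singularity
-/

set_option autoImplicit false
set_option backward.isDefEq.respectTransparency.types false
set_option linter.style.haveILetI false
universe u

open IsLocalRing CategoryTheory PowerSeries

namespace Groth.Agent.CanDual17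

variable {k : Type u} [Field k] (A : Subalgebra k (PowerSeries k)) (c : ℕ)
  (hcond : ∀ f : PowerSeries k, (c : ℕ∞) ≤ f.order → f ∈ A)

/-- The fraction field of the power series ring. -/
abbrev KK (k : Type u) [Field k] : Type u := FractionRing (PowerSeries k)

/-- The inclusion of power series into their fraction field, linear over the subalgebra. -/
noncomputable def emb : PowerSeries k →ₗ[↥A] KK k :=
  (IsScalarTower.toAlgHom ↥A (PowerSeries k) (KK k)).toLinearMap

theorem emb_apply (f : PowerSeries k) : emb A f = algebraMap (PowerSeries k) (KK k) f := rfl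

theorem emb_injective : Function.Injective (emb A) := IsFractionRing.injective (PowerSeries k) (KK k)

theorem emb_mul (f g : PowerSeries k) : emb A (f * g) = emb A f * emb A g := map_mul (algebraMap (PowerSeries k) (KK k)) f g

theorem emb_one : emb A (1 : PowerSeries k) = 1 := map_one (algebraMap (PowerSeries k) (KK k))

theorem algebraMap_eq_emb (a : ↥A) : algebraMap ↥A (KK k) a = emb A (a : PowerSeries k) :=
  IsScalarTower.algebraMap_apply ↥A (PowerSeries k) (KK k) a

include hcond in
theorem isFractionRing_KK : IsFractionRing ↥A (KK k) := by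
  have hinj : Function.Injective (algebraMap ↥A (KK k)) := fun a b h => Subtype.ext (emb_injective A (by
    rwa [algebraMap_eq_emb, algebraMap_eq_emb] at h))
  have hXmem : ∀ f : PowerSeries k, X ^ c * f ∈ A := fun f =>
    hcond _ (Branch.le_order_of_X_pow_dvd (Dvd.intro f rfl))
  constructor; constructor
  · intro y
    exact isUnit_iff_ne_zero.2 ((map_ne_zero_iff _ hinj).2 (nonZeroDivisors.ne_zero y.2))
  · intro z
    obtain ⟨f, g, hg, rfl⟩ := IsFractionRing.div_surjective (A := PowerSeries k) z
    have hg0 : g ≠ 0 := nonZeroDivisors.ne_zero hg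
    refine ⟨(⟨X ^ c * f, hXmem f⟩, ⟨⟨X ^ c * g, hXmem g⟩, mem_nonZeroDivisors_of_ne_zero fun h => ?_⟩), ?_⟩
    · exact mul_ne_zero (pow_ne_zero c X_ne_zero) hg0 (congrArg Subtype.val h)
    · show _ * algebraMap ↥A (KK k) ⟨X ^ c * g, _⟩ = algebraMap ↥A (KK k) ⟨X ^ c * f, _⟩
      rw [algebraMap_eq_emb, algebraMap_eq_emb, emb_apply, emb_apply, map_mul, map_mul]
      have hg' : algebraMap (PowerSeries k) (KK k) g ≠ 0 :=
        (map_ne_zero_iff _ (IsFractionRing.injective _ _)).2 hg0
      field_simp
  · intro a b h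
    exact ⟨1, by rw [hinj h]⟩

include hcond in
/-- Every submodule of the power series ring is finitely generated. -/
theorem isNoetherian_powerSeries [Module.Finite ↥A (PowerSeries k)] : IsNoetherian ↥A (PowerSeries k) := by
  constructor
  intro N
  by_cases hN : N = ⊥
  · subst hN; exact Submodule.fg_bot
  obtain ⟨a, ha, ha0⟩ := Submodule.exists_mem_ne_zero_of_ne_bot hN
  obtain ⟨e, he⟩ := Branch.exists_order_eq ha0
  have hbig : ∀ f : PowerSeries k, ((c + e : ℕ) : ℕ∞) ≤ f.order → f ∈ N := fun f hf => by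
    obtain ⟨w, rfl⟩ := Branch.X_pow_dvd_of_le_order hf
    obtain ⟨u, hu⟩ := isUnit_divided_by_X_pow_order ha0
    have hau : a = X ^ e * (u : PowerSeries k) := by
      rw [hu]
      have := X_pow_order_mul_divXPowOrder (f := a)
      rw [he, ENat.toNat_natCast] at this
      exact this.symm
    have hmem : X ^ c * ((↑u⁻¹ : PowerSeries k) * w) ∈ A := hcond _ (Branch.le_order_of_X_pow_dvd (Dvd.intro _ rfl))
    have h := N.smul_mem ⟨_, hmem⟩ ha
    rw [Subalgebra.smul_def, smul_eq_mul] at h
    convert h using 1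
    rw [hau, pow_add]
    linear_combination (-(X ^ c * X ^ e * w)) * u.mul_inv
  -- the tail is finitely generated and the rest is finite dimensional
  let L : Submodule ↥A (PowerSeries k) :=
    (⊤ : Submodule ↥A (PowerSeries k)).map (LinearMap.mulLeft ↥A (X ^ (c + e) : PowerSeries k))
  have hLfg : L.FG := Module.Finite.fg_top.map _
  have hLN : L ≤ N := by
    rintro _ ⟨w, -, rfl⟩
    exact hbig _ (Branch.le_order_of_X_pow_dvd (Dvd.intro w rfl))
  let V : Submodule k (PowerSeries k) :=
    Submodule.span k ((fun i : ℕ => (X ^ i : PowerSeries k)) '' Set.Iio (c + e))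
  haveI : FiniteDimensional k V := FiniteDimensional.span_of_finite k ((Set.finite_Iio _).image _)
  obtain ⟨s, hs⟩ := (IsNoetherian.noetherian (Submodule.comap V.subtype (N.restrictScalars k)) :
    (Submodule.comap V.subtype (N.restrictScalars k)).FG)
  classical
  have : N = L ⊔ Submodule.span ↥A ((fun v : V => (v : PowerSeries k)) '' (s : Set V)) := by
    refine le_antisymm (fun f hf => ?_) (sup_le hLN (Submodule.span_le.2 ?_))
    · let t : PowerSeries k := ∑ i ∈ Finset.range (c + e), coeff i f • X ^ i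
      have htV : t ∈ V := Submodule.sum_mem _ fun i hi =>
        Submodule.smul_mem _ _ (Submodule.subset_span ⟨i, Finset.mem_range.1 hi, rfl⟩)
      have hd : ((c + e : ℕ) : ℕ∞) ≤ (f - t).order := Branch.le_order_iff.2 fun i hi => by
        simp [t, map_sum, coeff_X_pow, Finset.sum_ite_eq, hi]
      obtain ⟨w, hw⟩ := Branch.X_pow_dvd_of_le_order hd
      have h1 : f - t ∈ L := ⟨w, trivial, hw.symm⟩
      have htN : t ∈ N := by simpa using N.sub_mem hf (hLN h1)
      have h2 : (⟨t, htV⟩ : V) ∈ Submodule.span k (s : Set V) := hs.symm ▸ htN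
      rw [show f = (f - t) + t by ring]
      refine Submodule.add_mem_sup h1 ?_
      have h3 : t ∈ Submodule.map V.subtype (Submodule.span k (s : Set V)) := ⟨_, h2, rfl⟩
      rw [Submodule.map_span] at h3
      exact (Submodule.span_le (p := (Submodule.span ↥A _).restrictScalars k)).2 Submodule.subset_span h3
    · rintro _ ⟨v, hv, rfl⟩
      have hv' : v ∈ Submodule.comap V.subtype (N.restrictScalars k) := hs ▸ Submodule.subset_span hv
      exact hv'
  rw [this]
  exact hLfg.sup (Submodule.fg_span (s.finite_toSet.image _))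

variable (hc0 : c ≠ 0)

include hcond in
theorem isNoetherianRing_A [Module.Finite ↥A (PowerSeries k)] : IsNoetherianRing ↥A := by
  haveI := isNoetherian_powerSeries A c hcond
  exact isNoetherian_of_injective
    ({ toFun := fun a => (a : PowerSeries k), map_add' := fun _ _ => rfl, map_smul' := fun _ _ => rfl } :
      ↥A →ₗ[↥A] PowerSeries k) Subtype.val_injective

include hcond in
/-- The units of the subalgebra are its elements with nonzero constant term. -/
theorem isUnit_A_iff (a : ↥A) : IsUnit a ↔ constantCoeff (a : PowerSeries k) ≠ 0 := by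
  constructor
  · intro h h0
    exact not_isUnit_zero (h0 ▸ isUnit_constantCoeff _ (h.map A.val))
  · intro h
    have hu : IsUnit (a : PowerSeries k) := isUnit_iff_constantCoeff.2 (isUnit_iff_ne_zero.2 h)
    let r := constantCoeff (a : PowerSeries k)
    have hb : (algebraMap k (PowerSeries k) r - a) ∈ A := A.sub_mem (A.algebraMap_mem r) a.2
    have hb1 : ((1 : ℕ) : ℕ∞) ≤ (algebraMap k (PowerSeries k) r - a).order := Branch.le_order_iff.2 fun i hi => by
      obtain rfl : i = 0 := by omega
      simp [r, coeff_zero_eq_constantCoeff]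
    set b := C r⁻¹ * (algebraMap k (PowerSeries k) r - a) with hbdef
    have hbA : b ∈ A := A.mul_mem (A.algebraMap_mem r⁻¹) hb
    have hbX : X ∣ b := by
      obtain ⟨w, hw⟩ := Branch.X_pow_dvd_of_le_order hb1
      rw [pow_one] at hw
      exact ⟨C r⁻¹ * w, by rw [hbdef, hw]; ring⟩
    have hab : (a : PowerSeries k) = C r * (1 - b) := by
      rw [hbdef, mul_sub, mul_one, ← mul_assoc, ← map_mul, mul_inv_cancel₀ h, map_one, one_mul]
      show _ = C r - (C r - _)
      ring
    refine IsUnit.of_mul_eq_one ⟨(↑hu.unit⁻¹ : PowerSeries k), ?_⟩ (Subtype.ext hu.mul_val_inv)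
    have hsum : C r⁻¹ * ∑ i ∈ Finset.range c, b ^ i ∈ A :=
      A.mul_mem (A.algebraMap_mem r⁻¹) (sum_mem fun i _ => pow_mem hbA i)
    rw [show (↑hu.unit⁻¹ : PowerSeries k) = C r⁻¹ * ∑ i ∈ Finset.range c, b ^ i + ↑hu.unit⁻¹ * b ^ c from ?_]
    · obtain ⟨w, hw⟩ := pow_dvd_pow_of_dvd hbX c
      refine A.add_mem hsum (hcond _ (Branch.le_order_of_X_pow_dvd ?_))
      exact hw ▸ Dvd.intro (↑hu.unit⁻¹ * w) (by ring)
    · have hg := geom_sum_mul_neg b c
      have h1 : (↑hu.unit⁻¹ : PowerSeries k) * a = 1 := hu.val_inv_mul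
      have h2 : (a : PowerSeries k) * (C r⁻¹ * ∑ i ∈ Finset.range c, b ^ i) = 1 - b ^ c := by
        have h3 : C r * C r⁻¹ = (1 : PowerSeries k) := by rw [← map_mul, mul_inv_cancel₀ h, map_one]
        rw [← hg, hab]
        linear_combination ((1 - b) * ∑ i ∈ Finset.range c, b ^ i) * h3
      linear_combination (-(↑hu.unit⁻¹ : PowerSeries k)) * h2 + (C r⁻¹ * ∑ i ∈ Finset.range c, b ^ i) * h1

include hcond in
theorem isLocalRing_A : IsLocalRing ↥A := by
  refine IsLocalRing.of_nonunits_add fun a b ha hb => ?_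
  simp only [mem_nonunits_iff, isUnit_A_iff A c hcond, not_not] at ha hb ⊢
  rw [Subalgebra.coe_add, map_add, ha, hb, add_zero]

include hcond in
theorem not_isField_A : ¬ IsField ↥A := fun h => by
  have hX : (X : PowerSeries k) ^ (c + 1) ∈ A :=
    hcond _ (by rw [order_X_pow]; exact_mod_cast Nat.le_succ c)
  have hne : (⟨_, hX⟩ : ↥A) ≠ 0 := fun h' => pow_ne_zero (c + 1) X_ne_zero (congrArg Subtype.val h')
  haveI := isLocalRing_A A c hcond
  obtain ⟨b, hb⟩ := h.mul_inv_cancel hne
  exact (isUnit_A_iff A c hcond ⟨_, hX⟩).1 (IsUnit.of_mul_eq_one b hb) (by simp)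

include hcond in
theorem krullDimLE_A : Ring.KrullDimLE 1 ↥A := by
  haveI := isLocalRing_A A c hcond
  refine Ring.krullDimLE_one_iff_of_noZeroDivisors.2 fun P hP hprime => ?_
  obtain ⟨a, ha, ha0⟩ := Submodule.exists_mem_ne_zero_of_ne_bot hP
  have ha0' : (a : PowerSeries k) ≠ 0 := fun h => ha0 (Subtype.ext h)
  obtain ⟨e, he⟩ := Branch.exists_order_eq ha0'
  obtain ⟨u, hu⟩ := isUnit_divided_by_X_pow_order ha0'
  have hau : (a : PowerSeries k) = X ^ e * (u : PowerSeries k) := by
    rw [hu]
    have := X_pow_order_mul_divXPowOrder (f := (a : PowerSeries k))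
    rw [he, ENat.toNat_natCast] at this
    exact this.symm
  suffices P = maximalIdeal ↥A by rw [this]; exact maximalIdeal.isMaximal _
  refine le_antisymm (le_maximalIdeal hprime.ne_top) fun b hb => hprime.mem_of_pow_mem (c + e) ?_
  have hb0 : constantCoeff (b : PowerSeries k) = 0 :=
    not_not.1 fun h => (mem_maximalIdeal b).1 hb ((isUnit_A_iff A c hcond b).2 h)
  obtain ⟨w, hw⟩ := X_dvd_iff.2 hb0
  have hmem : X ^ c * ((↑u⁻¹ : PowerSeries k) * w ^ (c + e)) ∈ A :=
    hcond _ (Branch.le_order_of_X_pow_dvd (Dvd.intro _ rfl))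
  have : b ^ (c + e) = ⟨_, hmem⟩ * a := Subtype.ext (by
    rw [SubmonoidClass.coe_pow, hw, mul_pow, MulMemClass.coe_mul, hau, pow_add]
    linear_combination (-(X ^ c * X ^ e * (w ^ c * w ^ e))) * u.mul_inv + (0 : PowerSeries k) * hau)
  rw [this]
  exact P.mul_mem_left _ ha

/-- The elements of order at least `j` of a submodule. -/
def tail (M : Submodule ↥A (PowerSeries k)) (j : ℕ) : Submodule ↥A (PowerSeries k) where
  carrier := {f | f ∈ M ∧ (j : ℕ∞) ≤ f.order}
  add_mem' ha hb := ⟨M.add_mem ha.1 hb.1, le_trans (le_min ha.2 hb.2) (min_order_le_order_add _ _)⟩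
  zero_mem' := ⟨M.zero_mem, by simp⟩
  smul_mem' a f hf := ⟨M.smul_mem a hf.1, by
    rw [Subalgebra.smul_def, smul_eq_mul]
    exact le_trans (le_add_left hf.2) (le_order_mul _ _)⟩

include hcond in
open Classical in
theorem len_tail (M : Submodule ↥A (PowerSeries k)) (j : ℕ) :
    len ((tail A M j).map (emb A)) (M.map (emb A)) =
      ((((Finset.range j).filter fun n : ℕ => ∃ f ∈ M, f.order = (n : ℕ∞)).card : ℕ) : ℕ∞) := by
  haveI := isLocalRing_A A c hcond
  rw [len_eq_of_mapping (emb A) (emb_injective A)]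
  induction j with
  | zero =>
    rw [show tail A M 0 = M from le_antisymm (fun f hf => hf.1) (fun f hf => ⟨hf, by simp⟩), len_self]
    simp
  | succ j ih =>
    have hle : tail A M (j + 1) ≤ tail A M j := fun f hf => ⟨hf.1, le_trans (by exact_mod_cast Nat.le_succ j) hf.2⟩
    rw [← len_add hle (fun f hf => hf.1), ih, Finset.range_add_one, Finset.filter_insert]
    by_cases hj : ∃ f ∈ M, f.order = (j : ℕ∞)
    · rw [if_pos hj, Finset.card_insert_of_notMem (by simp)]
      obtain ⟨y, hy, hyj⟩ := hj
      have hsup : tail A M j = tail A M (j + 1) ⊔ Submodule.span ↥A {y} := by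
        refine le_antisymm (fun f hf => ?_) (sup_le hle ((Submodule.span_singleton_le_iff_mem _ _).2 ⟨hy, hyj.ge⟩))
        obtain ⟨g, hg, hgo⟩ := Branch.exists_mem_reduce (V := Submodule.span k {y}) (n := j)
          ⟨y, Submodule.mem_span_singleton_self y, hyj⟩ hf.2
        obtain ⟨s, rfl⟩ := Submodule.mem_span_singleton.1 hg
        have hs : s • y = algebraMap k ↥A s • y := (algebraMap_smul ↥A s y).symm
        rw [show f = (f - s • y) + s • y by ring]
        refine Submodule.add_mem_sup ⟨M.sub_mem hf.1 (hs ▸ M.smul_mem _ hy), hgo⟩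
          (hs ▸ Submodule.smul_mem _ _ (Submodule.mem_span_singleton_self y))
      have h1 : len (tail A M (j + 1)) (tail A M j) = 1 := by
        rw [hsup]
        refine len_sup_span_singleton (fun h => ?_) fun r hr => ⟨M.smul_mem r hy, ?_⟩
        · have := h.2
          rw [hyj] at this
          exact absurd (ENat.coe_le_coe.1 this) (by omega)
        · have hr0 : constantCoeff (r : PowerSeries k) = 0 :=
            not_not.1 fun h => (mem_maximalIdeal r).1 hr ((isUnit_A_iff A c hcond r).2 h)
          obtain ⟨w, hw⟩ := X_dvd_iff.2 hr0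
          obtain ⟨z, hz⟩ := Branch.X_pow_dvd_of_le_order hyj.ge
          refine Branch.le_order_of_X_pow_dvd ?_
          rw [Subalgebra.smul_def, smul_eq_mul, hw, hz, pow_succ]
          exact Dvd.intro (w * z) (by ring)
      rw [h1]
      push_cast
      ring
    · rw [if_neg hj, show tail A M (j + 1) = tail A M j from le_antisymm hle fun f hf => ⟨hf.1,
        Branch.le_order_iff.2 fun i hi => ?_⟩, len_self, zero_add]
      rcases Nat.lt_succ_iff_lt_or_eq.1 hi with h | rfl
      · exact Branch.le_order_iff.1 hf.2 i h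
      · by_contra hne
        exact hj ⟨f, hf.1, order_eq_nat.2 ⟨hne, Branch.le_order_iff.1 hf.2⟩⟩

end Groth.Agent.CanDual17
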